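import Mathlib

/-!
# Algebra of infinitesimal lifts: affine combinations of ring homomorphisms congruent modulo a
square-zero ideal, extension of lifts across a localization, and killing of torsion
-/

set_option autoImplicit false
set_option backward.isDefEq.respectTransparency.types false
set_option synthInstance.maxHeartbeats 400000
set_option maxHeartbeats 4000000
set_option linter.style.haveILetI false
set_option linter.unusedSectionVars false
set_option linter.unusedVariables false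
set_option linter.unusedSimpArgs false
set_option linter.unnecessarySimpa false

namespace Groth.Agent.Helper2.SmLift

section Comb

variable {B A : Type*} [CommRing B] [CommRing A]

/-- `Λ'` is congruent to `Λ` modulo the ideal `J`. -/
def Cong (J : Ideal A) (Λ Λ' : B →+* A) : Prop := ∀ x, Λ' x - Λ x ∈ J

theorem Cong.refl (J : Ideal A) (Λ : B →+* A) : Cong J Λ Λ := fun x => by simp

theorem Cong.symm {J : Ideal A} {Λ Λ' : B →+* A} (h : Cong J Λ Λ') : Cong J Λ' Λ := fun x => by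
  have := J.neg_mem (h x)
  simpa using this

theorem Cong.trans {J : Ideal A} {Λ Λ' Λ'' : B →+* A} (h : Cong J Λ Λ') (h' : Cong J Λ' Λ'') :
    Cong J Λ Λ'' := fun x => by
  have := J.add_mem (h x) (h' x)
  have e : Λ' x - Λ x + (Λ'' x - Λ' x) = Λ'' x - Λ x := by ring
  rwa [e] at this

/-- Leibniz rule for the difference of two congruent ring homomorphisms. -/
theorem leibniz_sub (J : Ideal A) (hJ : ∀ x ∈ J, ∀ y ∈ J, x * y = 0) {Λ Λ' : B →+* A}
    (h : Cong J Λ Λ') (x y : B) :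
    Λ' (x * y) - Λ (x * y) = Λ x * (Λ' y - Λ y) + Λ y * (Λ' x - Λ x) := by
  have := hJ _ (h x) _ (h y)
  rw [map_mul, map_mul]
  linear_combination this

/-- `Λ + E` as a ring homomorphism, for a "derivation" `E` with square-zero values. -/
def addDer (Λ : B →+* A) (E : B → A) (hadd : ∀ x y, E (x + y) = E x + E y)
    (hmul : ∀ x y, E (x * y) = Λ x * E y + Λ y * E x) (hsq : ∀ x y, E x * E y = 0) : B →+* A where
  toFun x := Λ x + E x
  map_one' := by
    have h1 : E 1 = 0 := by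
      have := hmul 1 1
      simp only [mul_one, map_one, one_mul] at this
      linear_combination -this
    simp [h1]
  map_mul' x y := by
    rw [map_mul, hmul]
    linear_combination (-1 : A) * hsq x y
  map_zero' := by
    have h0 : E 0 = 0 := by
      have := hadd 0 0
      simpa using this
    simp [h0]
  map_add' x y := by
    rw [map_add, hadd]
    ring

@[simp] theorem addDer_apply (Λ : B →+* A) (E : B → A) (hadd : ∀ x y, E (x + y) = E x + E y)
    (hmul : ∀ x y, E (x * y) = Λ x * E y + Λ y * E x) (hsq : ∀ x y, E x * E y = 0) (x : B) :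
    addDer Λ E hadd hmul hsq x = Λ x + E x := rfl

variable {ι : Type*} [Fintype ι]

/-- The affine combination `Λ₀ + ∑ wᵢ (Λᵢ - Λ₀)` as a ring homomorphism. -/
def mcomb (J : Ideal A) (hJ : ∀ x ∈ J, ∀ y ∈ J, x * y = 0) (Λ₀ : B →+* A) (Λs : ι → B →+* A)
    (ws : ι → A) (h : ∀ i, Cong J Λ₀ (Λs i)) : B →+* A :=
  addDer Λ₀ (fun x => ∑ i, ws i * (Λs i x - Λ₀ x))
    (fun x y => by
      simp only [map_add]
      rw [← Finset.sum_add_distrib]
      exact Finset.sum_congr rfl fun i _ => by ring)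
    (fun x y => by
      rw [Finset.mul_sum, Finset.mul_sum, ← Finset.sum_add_distrib]
      refine Finset.sum_congr rfl fun i _ => ?_
      rw [leibniz_sub J hJ (h i)]
      ring)
    (fun x y => by
      rw [Finset.sum_mul_sum]
      refine Finset.sum_eq_zero fun i _ => Finset.sum_eq_zero fun j _ => ?_
      have := hJ _ (h i x) _ (h j y)
      linear_combination ws i * ws j * this)

theorem mcomb_apply (J : Ideal A) (hJ : ∀ x ∈ J, ∀ y ∈ J, x * y = 0) (Λ₀ : B →+* A)
    (Λs : ι → B →+* A) (ws : ι → A) (h : ∀ i, Cong J Λ₀ (Λs i)) (x : B) :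
    mcomb J hJ Λ₀ Λs ws h x = Λ₀ x + ∑ i, ws i * (Λs i x - Λ₀ x) := rfl

theorem mcomb_cong (J : Ideal A) (hJ : ∀ x ∈ J, ∀ y ∈ J, x * y = 0) (Λ₀ : B →+* A)
    (Λs : ι → B →+* A) (ws : ι → A) (h : ∀ i, Cong J Λ₀ (Λs i)) :
    Cong J Λ₀ (mcomb J hJ Λ₀ Λs ws h) := fun x => by
  rw [mcomb_apply, add_sub_cancel_left]
  exact J.sum_mem fun i _ => J.mul_mem_left _ (h i x)

/-- `Λ` is the affine combination `Λ₀ + ∑ wᵢ (Λᵢ - Λ₀)`. -/
def IsComb (Λ₀ : B →+* A) (Λs : ι → B →+* A) (ws : ι → A) (Λ : B →+* A) : Prop :=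
  ∀ x, Λ x = Λ₀ x + ∑ i, ws i * (Λs i x - Λ₀ x)

theorem isComb_mcomb (J : Ideal A) (hJ : ∀ x ∈ J, ∀ y ∈ J, x * y = 0) (Λ₀ : B →+* A)
    (Λs : ι → B →+* A) (ws : ι → A) (h : ∀ i, Cong J Λ₀ (Λs i)) :
    IsComb Λ₀ Λs ws (mcomb J hJ Λ₀ Λs ws h) := fun x => mcomb_apply J hJ Λ₀ Λs ws h x

theorem IsComb.eq_mcomb {J : Ideal A} (hJ : ∀ x ∈ J, ∀ y ∈ J, x * y = 0) {Λ₀ : B →+* A}
    {Λs : ι → B →+* A} {ws : ι → A} {Λ : B →+* A} (hc : IsComb Λ₀ Λs ws Λ)
    (h : ∀ i, Cong J Λ₀ (Λs i)) : Λ = mcomb J hJ Λ₀ Λs ws h :=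
  RingHom.ext fun x => (hc x).trans (mcomb_apply J hJ Λ₀ Λs ws h x).symm

theorem IsComb.comp_left {A'' : Type*} [CommRing A''] (ρ : A →+* A'') {Λ₀ : B →+* A}
    {Λs : ι → B →+* A} {ws : ι → A} {Λ : B →+* A} (hc : IsComb Λ₀ Λs ws Λ) :
    IsComb (ρ.comp Λ₀) (fun i => ρ.comp (Λs i)) (fun i => ρ (ws i)) (ρ.comp Λ) := fun x => by
  simp only [RingHom.comp_apply, hc x, map_add, map_sum, map_mul, map_sub]

theorem IsComb.comp_right {B' : Type*} [CommRing B'] (σ : B' →+* B) {Λ₀ : B →+* A}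
    {Λs : ι → B →+* A} {ws : ι → A} {Λ : B →+* A} (hc : IsComb Λ₀ Λs ws Λ) :
    IsComb (Λ₀.comp σ) (fun i => (Λs i).comp σ) ws (Λ.comp σ) := fun x => hc (σ x)

/-- Affine combinations can be detected after restriction along an epimorphism of rings
(for example a localization). -/
theorem IsComb.of_comp_right {B' : Type*} [CommRing B'] (σ : B' →+* B)
    (hσ : ∀ Θ Θ' : B →+* A, Θ.comp σ = Θ'.comp σ → Θ = Θ')
    {J : Ideal A} (hJ : ∀ x ∈ J, ∀ y ∈ J, x * y = 0) {Λ₀ : B →+* A}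
    {Λs : ι → B →+* A} {ws : ι → A} {Λ : B →+* A} (h : ∀ i, Cong J Λ₀ (Λs i))
    (hc : IsComb (Λ₀.comp σ) (fun i => (Λs i).comp σ) ws (Λ.comp σ)) :
    IsComb Λ₀ Λs ws Λ := by
  have : Λ = mcomb J hJ Λ₀ Λs ws h := by
    apply hσ
    ext x
    rw [RingHom.comp_apply, RingHom.comp_apply, mcomb_apply]
    exact hc x
  rw [this]
  exact isComb_mcomb J hJ Λ₀ Λs ws h

theorem IsComb.cong {J : Ideal A} {Λ₀ : B →+* A} {Λs : ι → B →+* A} {ws : ι → A} {Λ : B →+* A}
    (hc : IsComb Λ₀ Λs ws Λ) (h : ∀ i, Cong J Λ₀ (Λs i)) : Cong J Λ₀ Λ := fun x => by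
  rw [hc x, add_sub_cancel_left]
  exact J.sum_mem fun i _ => J.mul_mem_left _ (h i x)

end Comb

section Der

variable {R B A : Type*} [CommRing R] [CommRing B] [CommRing A]

/-- `E` is an `R`-derivation over `Λ` with values in `J`. -/
structure IsDer (J : Ideal A) (Λ : B →+* A) (φ : R →+* B) (E : B → A) : Prop where
  mem : ∀ x, E x ∈ J
  add : ∀ x y, E (x + y) = E x + E y
  mul : ∀ x y, E (x * y) = Λ x * E y + Λ y * E x
  base : ∀ r, E (φ r) = 0

theorem isDer_sub_of_cong {J : Ideal A} (hJ : ∀ x ∈ J, ∀ y ∈ J, x * y = 0) {Λ Λ₁ Λ₂ : B →+* A}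
    {φ : R →+* B} (h₁ : Cong J Λ Λ₁) (h₂ : Cong J Λ Λ₂) (e₁ : Λ₁.comp φ = Λ.comp φ)
    (e₂ : Λ₂.comp φ = Λ.comp φ) : IsDer J Λ φ (fun x => Λ₁ x - Λ₂ x) where
  mem x := by
    have := J.sub_mem (h₁ x) (h₂ x)
    have e : Λ₁ x - Λ x - (Λ₂ x - Λ x) = Λ₁ x - Λ₂ x := by ring
    rwa [e] at this
  add x y := by simp only [map_add]; ring
  mul x y := by
    have a := leibniz_sub J hJ h₁ x y
    have b := leibniz_sub J hJ h₂ x y
    linear_combination a - b
  base r := by
    have a : Λ₁ (φ r) = Λ (φ r) := congr($e₁ r)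
    have b : Λ₂ (φ r) = Λ (φ r) := congr($e₂ r)
    simp only [a, b, sub_self]

theorem IsDer.sub {J : Ideal A} {Λ : B →+* A} {φ : R →+* B} {E E' : B → A}
    (h : IsDer J Λ φ E) (h' : IsDer J Λ φ E') : IsDer J Λ φ (fun x => E x - E' x) where
  mem x := J.sub_mem (h.mem x) (h'.mem x)
  add x y := by simp only [h.add, h'.add]; ring
  mul x y := by simp only [h.mul, h'.mul]; ring
  base r := by simp only [h.base, h'.base, sub_self]

theorem IsDer.smul {J : Ideal A} {Λ : B →+* A} {φ : R →+* B} {E : B → A}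
    (h : IsDer J Λ φ E) (c : A) : IsDer J Λ φ (fun x => c * E x) where
  mem x := J.mul_mem_left _ (h.mem x)
  add x y := by simp only [h.add]; ring
  mul x y := by simp only [h.mul]; ring
  base r := by simp only [h.base, mul_zero]

/-- A derivation from a finitely generated algebra which vanishes after localization at `h` is
killed by a power of `h`. -/
theorem IsDer.exists_pow_mul_eq_zero {A'' : Type*} [CommRing A''] (ρ : A →+* A'') (h : A)
    (hinj : ∀ x : A, ρ x = 0 → ∃ n : ℕ, h ^ n * x = 0)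
    {J : Ideal A} {Λ : B →+* A} {φ : R →+* B} (hφ : φ.FiniteType) {E : B → A}
    (hE : IsDer J Λ φ E) (hρ : ∀ x, ρ (E x) = 0) : ∃ n : ℕ, ∀ x, h ^ n * E x = 0 := by
  classical
  letI := φ.toAlgebra
  obtain ⟨s, hs⟩ := (hφ : Algebra.FiniteType R B).out
  choose n hn using fun b : B => hinj (E b) (hρ b)
  refine ⟨s.sup n, fun x => ?_⟩
  have hx : x ∈ Algebra.adjoin R (s : Set B) := by rw [hs]; trivial
  induction hx using Algebra.adjoin_induction with
  | mem b hb =>
    have hle : n b ≤ s.sup n := Finset.le_sup hb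
    rw [← Nat.sub_add_cancel hle, pow_add, mul_assoc, hn b, mul_zero]
  | algebraMap r =>
    have : E (algebraMap R B r) = 0 := hE.base r
    rw [this, mul_zero]
  | add x y _ _ hx hy => rw [hE.add, mul_add, hx, hy, add_zero]
  | mul x y _ _ hx hy =>
    rw [hE.mul]
    linear_combination Λ x * hy + Λ y * hx

end Der

end Groth.Agent.Helper2.SmLift
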