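import Mathlib

/-!
# Chart description of morphisms from affine opens into a scheme
-/

set_option autoImplicit false
set_option backward.isDefEq.respectTransparency.types false
set_option synthInstance.maxHeartbeats 400000
set_option maxHeartbeats 4000000
set_option linter.style.haveILetI false
set_option linter.unusedSectionVars false
set_option linter.unusedVariables false
set_option linter.unusedSimpArgs false
set_option linter.unnecessarySimpa false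

universe u

open AlgebraicGeometry CategoryTheory TopologicalSpace Opposite

namespace Groth.Agent.Helper2.SmLift

section General

variable {Z X : Scheme.{u}}

theorem hom_eq_of_appLE [IsAffine Z] {U : X.Opens} (hU : IsAffineOpen U) (p : Z ⟶ X)
    (hp : ⊤ ≤ p ⁻¹ᵁ U) : p = Z.isoSpec.hom ≫ Spec.map (p.appLE U ⊤ hp) ≫ hU.fromSpec := by
  rw [IsAffineOpen.SpecMap_appLE_fromSpec p hU (isAffineOpen_top Z) hp,
    IsAffineOpen.fromSpec_top]
  simp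

theorem hom_ext_appLE [IsAffine Z] {U : X.Opens} (hU : IsAffineOpen U) (p q : Z ⟶ X)
    (hp : ⊤ ≤ p ⁻¹ᵁ U) (hq : ⊤ ≤ q ⁻¹ᵁ U) (h : p.appLE U ⊤ hp = q.appLE U ⊤ hq) : p = q := by
  rw [hom_eq_of_appLE hU p hp, hom_eq_of_appLE hU q hq, h]

theorem exists_hom_appLE [IsAffine Z] {U : X.Opens} (hU : IsAffineOpen U)
    (ψ : Γ(X, U) ⟶ Γ(Z, ⊤)) : ∃ (p : Z ⟶ X) (hp : ⊤ ≤ p ⁻¹ᵁ U), p.appLE U ⊤ hp = ψ := by
  let p : Z ⟶ X := Z.isoSpec.hom ≫ Spec.map ψ ≫ hU.fromSpec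
  have hp : ⊤ ≤ p ⁻¹ᵁ U := by
    intro z _
    change p z ∈ U
    have : p z ∈ Set.range hU.fromSpec := by
      simp only [p, Scheme.Hom.comp_apply]
      exact ⟨_, rfl⟩
    rw [hU.range_fromSpec] at this
    exact this
  refine ⟨p, hp, ?_⟩
  apply Spec.map_injective
  rw [← cancel_mono hU.fromSpec,
    IsAffineOpen.SpecMap_appLE_fromSpec p hU (isAffineOpen_top Z) hp, IsAffineOpen.fromSpec_top]
  simp [p]

end General

section CM

variable {T' X : Scheme.{u}}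

/-- The chart map of a morphism `p : W ⟶ X` landing in the open `U`. -/
noncomputable def cm {W : T'.Opens} (p : W.toScheme ⟶ X) (U : X.Opens) (hp : ⊤ ≤ p ⁻¹ᵁ U) :
    Γ(X, U) ⟶ Γ(T', W) :=
  p.appLE U ⊤ hp ≫ W.topIso.hom

theorem cm_injective {W : T'.Opens} (hW : IsAffineOpen W) {U : X.Opens} (hU : IsAffineOpen U)
    (p q : W.toScheme ⟶ X) (hp : ⊤ ≤ p ⁻¹ᵁ U) (hq : ⊤ ≤ q ⁻¹ᵁ U)
    (h : cm p U hp = cm q U hq) : p = q := by
  haveI : IsAffine W.toScheme := hW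
  apply hom_ext_appLE hU p q hp hq
  exact (cancel_mono W.topIso.hom).1 h

theorem exists_cm_eq {W : T'.Opens} (hW : IsAffineOpen W) {U : X.Opens} (hU : IsAffineOpen U)
    (ψ : Γ(X, U) ⟶ Γ(T', W)) : ∃ (p : W.toScheme ⟶ X) (hp : ⊤ ≤ p ⁻¹ᵁ U), cm p U hp = ψ := by
  haveI : IsAffine W.toScheme := hW
  obtain ⟨p, hp, h⟩ := exists_hom_appLE hU (ψ ≫ W.topIso.inv)
  exact ⟨p, hp, by rw [cm, h, Category.assoc, Iso.inv_hom_id, Category.comp_id]⟩

set_option backward.defeqAttrib.useBackward true in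
set_option backward.isDefEq.respectTransparency false in
theorem homOfLE_appTop_topIso {W W'' : T'.Opens} (hW : W'' ≤ W) :
    (T'.homOfLE hW).appTop ≫ W''.topIso.hom = W.topIso.hom ≫ T'.presheaf.map (homOfLE hW).op := by
  rw [Scheme.homOfLE_appTop, Scheme.Opens.topIso_hom, Scheme.Opens.topIso_hom,
    ← Functor.map_comp, ← Functor.map_comp]
  congr 1

theorem cm_res {W W'' : T'.Opens} (hW : W'' ≤ W) (p : W.toScheme ⟶ X) {U U'' : X.Opens}
    (hU : U'' ≤ U) (hp : ⊤ ≤ p ⁻¹ᵁ U) (hp'' : ⊤ ≤ (T'.homOfLE hW ≫ p) ⁻¹ᵁ U'') :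
    X.presheaf.map (homOfLE hU).op ≫ cm (T'.homOfLE hW ≫ p) U'' hp'' =
      cm p U hp ≫ T'.presheaf.map (homOfLE hW).op := by
  simp only [cm]
  rw [← Category.assoc, Scheme.Hom.map_appLE]
  have h1 : (T'.homOfLE hW ≫ p).appLE U ⊤
      (hp''.trans ((T'.homOfLE hW ≫ p).preimage_mono hU)) =
      p.appLE U ⊤ hp ≫ (T'.homOfLE hW).appLE ⊤ ⊤ le_top := by
    rw [Scheme.Hom.appLE_comp_appLE]
  have h2 : (T'.homOfLE hW).appLE ⊤ ⊤ le_top = (T'.homOfLE hW).appTop := by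
    simp [Scheme.Hom.appLE, Scheme.Hom.appTop]
    exact Category.comp_id _
  rw [h1, h2, Category.assoc, Category.assoc, homOfLE_appTop_topIso]

set_option backward.defeqAttrib.useBackward true in
set_option backward.isDefEq.respectTransparency false in
theorem ι_appLE_top (W : T'.Opens) (e : (⊤ : W.toScheme.Opens) ≤ W.ι ⁻¹ᵁ W) :
    W.ι.appLE W ⊤ e = W.topIso.inv := by
  rw [Scheme.Opens.ι_appLE, Scheme.Opens.topIso_inv]
  congr 1

end CM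

section Lift

variable {T T' X Y : Scheme.{u}} (t : T ⟶ T') (f : X ⟶ Y) (a : T ⟶ X) (b : T' ⟶ Y)

/-- Compatibility of a local morphism `p : W ⟶ X` with `a : T ⟶ X` along `t`. -/
def TComp (W : T'.Opens) (p : W.toScheme ⟶ X) : Prop :=
  (t ∣_ W) ≫ p = (t ⁻¹ᵁ W).ι ≫ a

/-- Compatibility of a local morphism `p : W ⟶ X` with `b : T' ⟶ Y` along `f`. -/
def FComp (W : T'.Opens) (p : W.toScheme ⟶ X) : Prop :=
  p ≫ f = W.ι ≫ b

variable {t f a b}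

theorem TComp.le_preimage [Surjective t] {W : T'.Opens} {p : W.toScheme ⟶ X}
    (h : TComp t a W p) {U : X.Opens} (hWU : t ⁻¹ᵁ W ≤ a ⁻¹ᵁ U) : ⊤ ≤ p ⁻¹ᵁ U := by
  intro w _
  obtain ⟨z, hz⟩ := t.surjective w.1
  have hzW : z ∈ t ⁻¹ᵁ W := by
    change t z ∈ W
    rw [hz]; exact w.2
  have e : (t ∣_ W) ⟨z, hzW⟩ = w := by
    apply Subtype.ext
    rw [morphismRestrict_base_coe]
    exact hz
  change p w ∈ U
  rw [← e, ← Scheme.Hom.comp_apply, h, Scheme.Hom.comp_apply]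
  exact hWU hzW

theorem appLE_congr_hom {Z : Scheme.{u}} {m m' : Z ⟶ X} (h : m = m') (U : X.Opens) (O : Z.Opens)
    (e : O ≤ m ⁻¹ᵁ U) (e' : O ≤ m' ⁻¹ᵁ U) : m.appLE U O e = m'.appLE U O e' := by
  subst h; rfl

set_option backward.defeqAttrib.useBackward true in
set_option backward.isDefEq.respectTransparency false in
theorem morphismRestrict_appLE_top (W : T'.Opens) (e) :
    (t ∣_ W).appLE ⊤ ⊤ e = W.topIso.hom ≫ t.app W ≫ (t ⁻¹ᵁ W).topIso.inv := by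
  rw [morphismRestrict_appLE, Scheme.Opens.topIso_hom, Scheme.Opens.topIso_inv,
    Scheme.Hom.app_eq_appLE, Scheme.Hom.appLE_map, Scheme.Hom.map_appLE]

theorem tcomp_iff [IsClosedImmersion t] {W : T'.Opens} (hW : IsAffineOpen W) {U : X.Opens}
    (hU : IsAffineOpen U) (p : W.toScheme ⟶ X) (hp : ⊤ ≤ p ⁻¹ᵁ U) (hWU : t ⁻¹ᵁ W ≤ a ⁻¹ᵁ U) :
    TComp t a W p ↔ cm p U hp ≫ t.app W = a.appLE U (t ⁻¹ᵁ W) hWU := by
  haveI : IsAffine (t ⁻¹ᵁ W).toScheme := hW.preimage t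
  have e1 : ⊤ ≤ ((t ∣_ W) ≫ p) ⁻¹ᵁ U := fun z _ => hp (Set.mem_univ ((t ∣_ W) z))
  have e2 : ⊤ ≤ ((t ⁻¹ᵁ W).ι ≫ a) ⁻¹ᵁ U := fun z _ => hWU z.2
  have hA : ((t ∣_ W) ≫ p).appLE U ⊤ e1 =
      p.appLE U ⊤ hp ≫ W.topIso.hom ≫ t.app W ≫ (t ⁻¹ᵁ W).topIso.inv := by
    rw [← morphismRestrict_appLE_top (t := t) W le_top, Scheme.Hom.appLE_comp_appLE]
  have hB : ((t ⁻¹ᵁ W).ι ≫ a).appLE U ⊤ e2 =
      a.appLE U (t ⁻¹ᵁ W) hWU ≫ (t ⁻¹ᵁ W).topIso.inv := by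
    rw [← ι_appLE_top (t ⁻¹ᵁ W) (by simp), Scheme.Hom.appLE_comp_appLE]
  constructor
  · intro h
    have := appLE_congr_hom h U ⊤ e1 e2
    rw [hA, hB] at this
    rw [← cancel_mono (t ⁻¹ᵁ W).topIso.inv]
    simpa [cm] using this
  · intro h
    apply hom_ext_appLE hU _ _ e1 e2
    rw [hA, hB, ← h]
    simp [cm]

theorem fcomp_iff {W : T'.Opens} (hW : IsAffineOpen W) {U : X.Opens} {V : Y.Opens}
    (hV : IsAffineOpen V) (p : W.toScheme ⟶ X) (hp : ⊤ ≤ p ⁻¹ᵁ U) (hUV : U ≤ f ⁻¹ᵁ V)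
    (hWV : W ≤ b ⁻¹ᵁ V) :
    FComp f b W p ↔ f.appLE V U hUV ≫ cm p U hp = b.appLE V W hWV := by
  haveI : IsAffine W.toScheme := hW
  have e1 : ⊤ ≤ (p ≫ f) ⁻¹ᵁ V := fun z _ => hUV (hp (Set.mem_univ z))
  have e2 : ⊤ ≤ (W.ι ≫ b) ⁻¹ᵁ V := fun z _ => hWV z.2
  have hA : (p ≫ f).appLE V ⊤ e1 = f.appLE V U hUV ≫ p.appLE U ⊤ hp := by
    rw [Scheme.Hom.appLE_comp_appLE]
  have hB : (W.ι ≫ b).appLE V ⊤ e2 = b.appLE V W hWV ≫ W.topIso.inv := by
    rw [← ι_appLE_top W (by simp), Scheme.Hom.appLE_comp_appLE]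
  constructor
  · intro h
    have := appLE_congr_hom h V ⊤ e1 e2
    rw [hA, hB] at this
    rw [cm, ← Category.assoc, this, Category.assoc, Iso.inv_hom_id, Category.comp_id]
  · intro h
    apply hom_ext_appLE hV _ _ e1 e2
    rw [hA, hB, ← h, cm, Category.assoc, Category.assoc, Iso.hom_inv_id, Category.comp_id]

end Lift

end Groth.Agent.Helper2.SmLift
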