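import Mathlib
import Groth.Agent.Lib.Helper2.SmLift.Alg

/-!
# Extension of infinitesimal lifts across a localization (finitely presented algebras)
-/

set_option autoImplicit false
set_option backward.isDefEq.respectTransparency.types false
set_option synthInstance.maxHeartbeats 400000
set_option maxHeartbeats 4000000
set_option linter.style.haveILetI false
set_option linter.unusedSectionVars false
set_option linter.unusedVariables false
set_option linter.unusedSimpArgs false
set_option linter.unnecessarySimpa false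

namespace Groth.Agent.Helper2.SmLift

open MvPolynomial

section Taylor

variable {R A : Type*} [CommRing R] [CommRing A] {m : ℕ}

/-- First order Taylor expansion of a polynomial at a point perturbed by a square-zero vector. -/
theorem taylor (β : R →+* A) (y e : Fin m → A) (he : ∀ i j, e i * e j = 0)
    (p : MvPolynomial (Fin m) R) :
    eval₂ β (fun i => y i + e i) p =
      eval₂ β y p + ∑ i, eval₂ β y (pderiv i p) * e i := by
  induction p using MvPolynomial.induction_on with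
  | C r => simp
  | add p q hp hq =>
    simp only [eval₂_add, map_add, hp, hq, add_mul, Finset.sum_add_distrib]
    ring
  | mul_X p j hp =>
    have hS : (∑ i, eval₂ β y (pderiv i p) * e i) * e j = 0 := by
      rw [Finset.sum_mul]
      exact Finset.sum_eq_zero fun i _ => by rw [mul_assoc, he, mul_zero]
    have hd : ∑ i, eval₂ β y (pderiv i (p * X j)) * e i =
        eval₂ β y p * e j + y j * ∑ i, eval₂ β y (pderiv i p) * e i := by
      have h1 : ∀ i, eval₂ β y (pderiv i (p * X j)) * e i =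
          eval₂ β y p * (if i = j then e i else 0) + y j * (eval₂ β y (pderiv i p) * e i) := by
        intro i
        rw [Derivation.leibniz, pderiv_X, smul_eq_mul, smul_eq_mul, eval₂_add, eval₂_mul,
          eval₂_mul, eval₂_X]
        by_cases hij : i = j
        · subst hij
          simp only [Pi.single_eq_same, eval₂_one, if_true]
          ring
        · rw [Pi.single_eq_of_ne (Ne.symm hij), if_neg hij]
          simp only [eval₂_zero, mul_zero, zero_mul, zero_add, mul_zero]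
          ring
      simp only [h1, Finset.sum_add_distrib, ← Finset.mul_sum]
      rw [Finset.sum_ite_eq' Finset.univ j]
      simp
    rw [eval₂_mul, eval₂_X, hp, eval₂_mul, eval₂_X, hd]
    linear_combination hS

end Taylor

section Ext

variable {R B A A'' : Type*} [CommRing R] [CommRing B] [CommRing A] [CommRing A'']

/-- **Extension of lifts.** Let `R → B` be finitely presented, `Λ : B → A` a ring map and
`Λ' : B → A''` a ring map into a localization `A'' = A_h`, congruent to `ρ ∘ Λ` modulo the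
square-zero ideal `J''` and agreeing with it on `R`. Then for some `n` there is a ring map
`Λe : B → A` congruent to `Λ` modulo `J` with `ρ ∘ Λe = ρ ∘ Λ + h ^ n (Λ' - ρ ∘ Λ)`. -/
theorem exists_extension (φ : R →+* B) (hφ : φ.FinitePresentation) (ρ : A →+* A'') (h : A)
    (J : Ideal A) (J'' : Ideal A'')
    (hJ : ∀ x ∈ J, ∀ y ∈ J, x * y = 0) (hJ'' : ∀ x ∈ J'', ∀ y ∈ J'', x * y = 0)
    (hinj : ∀ x : A, ρ x = 0 → ∃ n : ℕ, h ^ n * x = 0)
    (hsurjJ : ∀ y ∈ J'', ∃ (n : ℕ) (x : A), x ∈ J ∧ ρ x = ρ h ^ n * y)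
    (Λ : B →+* A) (Λ' : B →+* A'') (hc : Cong J'' (ρ.comp Λ) Λ')
    (hb : Λ'.comp φ = (ρ.comp Λ).comp φ) :
    ∃ (n : ℕ) (Λe : B →+* A), Cong J Λ Λe ∧ Λe.comp φ = Λ.comp φ ∧
      ∀ x, ρ (Λe x) = ρ (Λ x) + ρ h ^ n * (Λ' x - ρ (Λ x)) := by
  classical
  letI := φ.toAlgebra
  obtain ⟨m, f, hf, hker⟩ := (hφ : Algebra.FinitePresentation R B).out
  obtain ⟨rs, hrs⟩ := hker
  set β : R →+* A := Λ.comp φ with hβ
  set y : Fin m → A := fun i => Λ (f (X i)) with hy
  have hfC : ∀ r : R, f (C r) = φ r := fun r => f.commutes r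
  have hΛf : ∀ p, Λ (f p) = eval₂ β y p := by
    intro p
    have : Λ.comp f.toRingHom = eval₂Hom β y := by
      apply MvPolynomial.ringHom_ext
      · intro r
        simp only [RingHom.comp_apply, AlgHom.toRingHom_eq_coe, RingHom.coe_coe, hfC,
          coe_eval₂Hom, eval₂_C, hβ]
      · intro i
        simp only [RingHom.comp_apply, AlgHom.toRingHom_eq_coe, RingHom.coe_coe, coe_eval₂Hom,
          eval₂_X, hy]
    exact congr($this p)
  set β'' : R →+* A'' := ρ.comp β with hβ''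
  set y'' : Fin m → A'' := fun i => Λ' (f (X i)) with hy''
  have hΛ'f : ∀ p, Λ' (f p) = eval₂ β'' y'' p := by
    intro p
    have : Λ'.comp f.toRingHom = eval₂Hom β'' y'' := by
      apply MvPolynomial.ringHom_ext
      · intro r
        have e : Λ' (φ r) = ρ (Λ (φ r)) := congr($hb r)
        simp only [RingHom.comp_apply, AlgHom.toRingHom_eq_coe, RingHom.coe_coe, hfC,
          coe_eval₂Hom, eval₂_C, hβ'', hβ, e]
      · intro i
        simp only [RingHom.comp_apply, AlgHom.toRingHom_eq_coe, RingHom.coe_coe, coe_eval₂Hom,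
          eval₂_X, hy'']
    exact congr($this p)
  have hρev : ∀ p, ρ (eval₂ β y p) = eval₂ β'' (fun i => ρ (y i)) p := by
    intro p
    rw [eval₂_comp_left ρ β y p]
    rfl
  set d : Fin m → A'' := fun i => y'' i - ρ (y i) with hd
  have hdJ : ∀ i, d i ∈ J'' := fun i => hc (f (X i))
  have hdd : ∀ i j, d i * d j = 0 := fun i j => hJ'' _ (hdJ i) _ (hdJ j)
  -- Taylor in `A''`
  have hT'' : ∀ p, eval₂ β'' y'' p = eval₂ β'' (fun i => ρ (y i)) p +
      ∑ i, eval₂ β'' (fun i => ρ (y i)) (pderiv i p) * d i := by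
    intro p
    have := taylor β'' (fun i => ρ (y i)) d hdd p
    have e : (fun i => ρ (y i) + d i) = y'' := by
      funext i
      simp only [hd]
      ring
    rwa [e] at this
  choose n₁ e₀ he₀J he₀ using fun i => hsurjJ (d i) (hdJ i)
  set N₁ := Finset.univ.sup n₁ with hN₁
  set e₁ : Fin m → A := fun i => h ^ (N₁ - n₁ i) * e₀ i with he₁
  have he₁J : ∀ i, e₁ i ∈ J := fun i => J.mul_mem_left _ (he₀J i)
  have hρe₁ : ∀ i, ρ (e₁ i) = ρ h ^ N₁ * d i := by
    intro i
    have hle : n₁ i ≤ N₁ := Finset.le_sup (Finset.mem_univ i)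
    simp only [he₁, map_mul, map_pow, he₀ i]
    rw [← mul_assoc, ← pow_add, Nat.sub_add_cancel hle]
  -- the obstruction elements
  set z : MvPolynomial (Fin m) R → A := fun r => ∑ i, eval₂ β y (pderiv i r) * e₁ i with hz
  have hzker : ∀ r, f r = 0 → ρ (z r) = 0 := by
    intro r hr
    have h1 : eval₂ β'' y'' r = 0 := by rw [← hΛ'f, hr, map_zero]
    have h2 : eval₂ β'' (fun i => ρ (y i)) r = 0 := by rw [← hρev, ← hΛf, hr, map_zero, map_zero]
    have h3 := hT'' r
    rw [h1, h2, zero_add] at h3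
    simp only [hz, map_sum, map_mul, hρev, hρe₁]
    have : ∑ i, eval₂ β'' (fun i => ρ (y i)) (pderiv i r) * (ρ h ^ N₁ * d i) =
        ρ h ^ N₁ * ∑ i, eval₂ β'' (fun i => ρ (y i)) (pderiv i r) * d i := by
      rw [Finset.mul_sum]
      exact Finset.sum_congr rfl fun i _ => by ring
    rw [this, ← h3, mul_zero]
  have hrsker : ∀ r ∈ rs, f r = 0 := by
    intro r hr
    have : r ∈ RingHom.ker f.toRingHom := by
      rw [← hrs]
      exact Ideal.subset_span hr
    exact this
  choose n₂ hn₂ using fun r : rs => hinj (z r.1) (hzker r.1 (hrsker r.1 r.2))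
  set N₂ := rs.attach.sup n₂ with hN₂
  set e : Fin m → A := fun i => h ^ N₂ * e₁ i with he
  have heJ : ∀ i, e i ∈ J := fun i => J.mul_mem_left _ (he₁J i)
  have hee : ∀ i j, e i * e j = 0 := fun i j => hJ _ (heJ i) _ (heJ j)
  have hT : ∀ p, eval₂ β (fun i => y i + e i) p =
      eval₂ β y p + h ^ N₂ * z p := by
    intro p
    rw [taylor β y e hee p]
    congr 1
    simp only [hz, he, Finset.mul_sum]
    exact Finset.sum_congr rfl fun i _ => by ring
  set g : MvPolynomial (Fin m) R →+* A := eval₂Hom β (fun i => y i + e i) with hg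
  have hgrs : ∀ r ∈ rs, g r = 0 := by
    intro r hr
    have hle : n₂ ⟨r, hr⟩ ≤ N₂ := Finset.le_sup (f := n₂) (Finset.mem_attach rs ⟨r, hr⟩)
    have h0 : eval₂ β y r = 0 := by rw [← hΛf, hrsker r hr, map_zero]
    have h1 : h ^ N₂ * z r = 0 := by
      rw [← Nat.sub_add_cancel hle, pow_add, mul_assoc]
      have := hn₂ ⟨r, hr⟩
      simp only at this
      rw [this, mul_zero]
    simp only [hg, coe_eval₂Hom, hT, h0, h1, add_zero]
  have hkg : RingHom.ker f.toRingHom ≤ RingHom.ker g := by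
    rw [← hrs, Ideal.span_le]
    intro r hr
    exact hgrs r hr
  set Λe : B →+* A := RingHom.liftOfSurjective f.toRingHom hf ⟨g, hkg⟩ with hΛe
  have hΛef : ∀ p, Λe (f p) = g p := fun p =>
    RingHom.liftOfRightInverse_comp_apply f.toRingHom _ (Function.rightInverse_surjInv hf)
      ⟨g, hkg⟩ p
  have hgp : ∀ p, g p = eval₂ β y p + h ^ N₂ * z p := fun p => by
    simp only [hg, coe_eval₂Hom, hT]
  have hzJ : ∀ p, z p ∈ J := fun p => J.sum_mem fun i _ => J.mul_mem_left _ (he₁J i)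
  refine ⟨N₁ + N₂, Λe, ?_, ?_, ?_⟩
  · intro x
    obtain ⟨p, rfl⟩ := hf x
    rw [hΛef, hgp, hΛf, add_sub_cancel_left]
    exact J.mul_mem_left _ (hzJ p)
  · ext r
    have : Λe (f (C r)) = g (C r) := hΛef (C r)
    rw [hfC] at this
    simp only [RingHom.comp_apply, this, hg, coe_eval₂Hom, eval₂_C, hβ]
  · intro x
    obtain ⟨p, rfl⟩ := hf x
    rw [hΛef, hgp, hΛ'f, hΛf, hT'' p, map_add, map_mul, map_pow, hρev, add_sub_cancel_left]
    congr 1
    simp only [hz, map_sum, map_mul, hρev, hρe₁]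
    rw [Finset.mul_sum, Finset.mul_sum]
    refine Finset.sum_congr rfl fun i _ => ?_
    rw [pow_add]
    ring

/-- Version of `exists_extension` valid for all large exponents. -/
theorem exists_extension_ge (φ : R →+* B) (hφ : φ.FinitePresentation) (ρ : A →+* A'') (h : A)
    (J : Ideal A) (J'' : Ideal A'')
    (hJ : ∀ x ∈ J, ∀ y ∈ J, x * y = 0) (hJ'' : ∀ x ∈ J'', ∀ y ∈ J'', x * y = 0)
    (hinj : ∀ x : A, ρ x = 0 → ∃ n : ℕ, h ^ n * x = 0)
    (hsurjJ : ∀ y ∈ J'', ∃ (n : ℕ) (x : A), x ∈ J ∧ ρ x = ρ h ^ n * y)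
    (Λ : B →+* A) (Λ' : B →+* A'') (hc : Cong J'' (ρ.comp Λ) Λ')
    (hb : Λ'.comp φ = (ρ.comp Λ).comp φ) :
    ∃ n₀ : ℕ, ∀ n, n₀ ≤ n → ∃ Λe : B →+* A, Cong J Λ Λe ∧ Λe.comp φ = Λ.comp φ ∧
      ∀ x, ρ (Λe x) = ρ (Λ x) + ρ h ^ n * (Λ' x - ρ (Λ x)) := by
  obtain ⟨n₀, Λe, h1, h2, h3⟩ :=
    exists_extension φ hφ ρ h J J'' hJ hJ'' hinj hsurjJ Λ Λ' hc hb
  refine ⟨n₀, fun n hn => ?_⟩
  have hcs : ∀ _ : Unit, Cong J Λ ((fun _ : Unit => Λe) ()) := fun _ => h1
  refine ⟨mcomb J hJ Λ (fun _ : Unit => Λe) (fun _ => h ^ (n - n₀)) hcs,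
    mcomb_cong J hJ Λ _ _ hcs, ?_, ?_⟩
  · ext r
    have e : Λe (φ r) = Λ (φ r) := congr($h2 r)
    simp only [RingHom.comp_apply, mcomb_apply, e, sub_self, mul_zero, Finset.sum_const_zero,
      add_zero]
  · intro x
    simp only [mcomb_apply, Finset.univ_unique, Finset.sum_singleton, map_add, map_mul, map_pow,
      map_sub, h3 x, add_sub_cancel_left]
    rw [← mul_assoc, ← pow_add, Nat.sub_add_cancel hn]

end Ext

section Away

variable {A A'' C C'' : Type*} [CommRing A] [CommRing A''] [CommRing C] [CommRing C'']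

theorem inj_of_away (ρ : A →+* A'') (h : A)
    (hA : @IsLocalization.Away A _ h A'' _ ρ.toAlgebra) :
    ∀ x : A, ρ x = 0 → ∃ n : ℕ, h ^ n * x = 0 := by
  letI := ρ.toAlgebra
  intro x hx
  have : algebraMap A A'' x = algebraMap A A'' 0 := by
    rw [map_zero]
    exact hx
  obtain ⟨n, hn⟩ := IsLocalization.Away.exists_of_eq h this
  exact ⟨n, by rw [hn, mul_zero]⟩

theorem surj_of_away (ρ : A →+* A'') (h : A)
    (hA : @IsLocalization.Away A _ h A'' _ ρ.toAlgebra) :
    ∀ y : A'', ∃ (n : ℕ) (x : A), ρ x = ρ h ^ n * y := by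
  letI := ρ.toAlgebra
  intro y
  obtain ⟨n, x, hx⟩ := IsLocalization.Away.surj h y
  exact ⟨n, x, by rw [mul_comm]; exact hx.symm⟩

theorem surjJ_of_away (ρ : A →+* A'') (ρC : C →+* C'') (q : A →+* C) (q'' : A'' →+* C'')
    (comm : q''.comp ρ = ρC.comp q) (h : A)
    (hA : @IsLocalization.Away A _ h A'' _ ρ.toAlgebra)
    (hC : @IsLocalization.Away C _ (q h) C'' _ ρC.toAlgebra) :
    ∀ y ∈ RingHom.ker q'', ∃ (n : ℕ) (x : A), x ∈ RingHom.ker q ∧ ρ x = ρ h ^ n * y := by
  intro y hy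
  obtain ⟨n, x₀, hx₀⟩ := surj_of_away ρ h hA y
  have h1 : ρC (q x₀) = 0 := by
    have : q'' (ρ x₀) = ρC (q x₀) := congr($comm x₀)
    rw [← this, hx₀, map_mul, (RingHom.mem_ker).1 hy, mul_zero]
  obtain ⟨m, hm⟩ := inj_of_away ρC (q h) hC (q x₀) h1
  refine ⟨m + n, h ^ m * x₀, ?_, ?_⟩
  · rw [RingHom.mem_ker, map_mul, map_pow, hm]
  · rw [map_mul, map_pow, hx₀, pow_add, mul_assoc]

end Away

end Groth.Agent.Helper2.SmLift
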