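import Mathlib
import Groth.Agent.Lib.Helper2.SmLift.Alg
import Groth.Agent.Lib.Helper2.SmLift.Ext
import Groth.Agent.Lib.Helper2.SmLift.Chart
import Groth.Agent.Lib.Helper2.Formal.EtaleLift
import Groth.Agent.Lib.Helper9.ThickAff

/-!
# Gluing infinitesimal lifts along a first order thickening of an affine scheme
-/

set_option autoImplicit false
set_option backward.isDefEq.respectTransparency.types false
set_option synthInstance.maxHeartbeats 400000
set_option maxHeartbeats 4000000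
set_option linter.style.haveILetI false
set_option linter.unusedSectionVars false
set_option linter.unusedVariables false
set_option linter.unusedSimpArgs false
set_option linter.unnecessarySimpa false

universe u

open AlgebraicGeometry CategoryTheory TopologicalSpace Opposite

namespace Groth.Agent.Helper2.SmLift

theorem epi_of_away {A A'' B : Type*} [CommRing A] [CommRing A''] [CommRing B] (ρ : A →+* A'')
    (h : A) (hA : @IsLocalization.Away A _ h A'' _ ρ.toAlgebra) (Θ Θ' : A'' →+* B)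
    (e : Θ.comp ρ = Θ'.comp ρ) : Θ = Θ' := by
  letI := ρ.toAlgebra
  exact IsLocalization.ringHom_ext (Submonoid.powers h) e

theorem cech_eq {A : Type*} [CommRing A] {K : Type*} [Fintype K] (c g : K → A) (N N' : ℕ)
    (h1 : ∑ l, c l * g l ^ (N + N') = 1) (Lk Lm : A) (Lkl Lml : K → A)
    (htor : ∀ l, g l ^ N' * ((Lkl l - Lk) - (Lml l - Lm) - g l ^ N * (Lm - Lk)) = 0) :
    Lk + ∑ l, (c l * g l ^ N') * (Lkl l - Lk) = Lm + ∑ l, (c l * g l ^ N') * (Lml l - Lm) := by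
  have : ∑ l, (c l * g l ^ N') * (Lkl l - Lk) - ∑ l, (c l * g l ^ N') * (Lml l - Lm) =
      ∑ l, (c l * g l ^ (N + N')) * (Lm - Lk) := by
    rw [← Finset.sum_sub_distrib]
    refine Finset.sum_congr rfl fun l _ => ?_
    rw [pow_add]
    linear_combination c l * htor l
  rw [← Finset.sum_mul, h1, one_mul] at this
  linear_combination this

section HomExt

variable {T' X : Scheme.{u}}

theorem hom_ext_of_homOfLE {W : T'.Opens} (p q : W.toScheme ⟶ X)
    (H : ∀ w ∈ W, ∃ (O : T'.Opens) (hO : O ≤ W), w ∈ O ∧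
      T'.homOfLE hO ≫ p = T'.homOfLE hO ≫ q) : p = q := by
  choose O hO hw hpq using H
  let 𝒰 : W.toScheme.OpenCover := {
    I₀ := W
    X := fun i => (O i.1 i.2)
    f := fun i => T'.homOfLE (hO i.1 i.2)
    mem₀ := by
      rw [Scheme.presieve₀_mem_precoverage_iff]
      refine ⟨fun x => ⟨x, ?_⟩, inferInstance⟩
      exact ⟨⟨x.1, hw x.1 x.2⟩, Scheme.homOfLE_apply' (hO x.1 x.2) x.1 (hw x.1 x.2)⟩ }
  exact 𝒰.hom_ext _ _ fun i => hpq i.1 i.2

end HomExt

section Layer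

variable {T T' X Y : Scheme.{u}} (t : T ⟶ T') (f : X ⟶ Y) (a : T ⟶ X) (b : T' ⟶ Y)

/-- The kernel of `𝒪_{T'}(W) → 𝒪_T(t⁻¹ W)`. -/
def J (W : T'.Opens) : Ideal Γ(T', W) := RingHom.ker (t.app W).hom

/-- The thickening `t` is of first order. -/
def SqZero : Prop := ∀ W : T'.Opens, IsAffineOpen W → ∀ x ∈ J t W, ∀ y ∈ J t W, x * y = 0

variable {t f a b}

theorem TComp.res {W W'' : T'.Opens} {p : W.toScheme ⟶ X} (h : TComp t a W p) (hle : W'' ≤ W) :
    TComp t a W'' (T'.homOfLE hle ≫ p) := by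
  have hpre : t ⁻¹ᵁ W'' ≤ t ⁻¹ᵁ W := fun z hz => hle hz
  have e0 : (t ∣_ W'') ≫ T'.homOfLE hle = T.homOfLE hpre ≫ (t ∣_ W) := by
    rw [← cancel_mono W.ι]
    simp only [Category.assoc, Scheme.homOfLE_ι, morphismRestrict_ι, Scheme.homOfLE_ι_assoc]
  unfold TComp at h ⊢
  rw [reassoc_of% e0, h, Scheme.homOfLE_ι_assoc]

theorem FComp.res {W W'' : T'.Opens} {p : W.toScheme ⟶ X} (h : FComp f b W p) (hle : W'' ≤ W) :
    FComp f b W'' (T'.homOfLE hle ≫ p) := by
  unfold FComp at h ⊢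
  rw [Category.assoc, h, Scheme.homOfLE_ι_assoc]

variable [IsClosedImmersion t] [Surjective t]

/-- The chart map of a local lift. -/
noncomputable def cmap {W : T'.Opens} {p : W.toScheme ⟶ X} (h : TComp t a W p) {U : X.Opens}
    (hWU : t ⁻¹ᵁ W ≤ a ⁻¹ᵁ U) : Γ(X, U) →+* Γ(T', W) :=
  (cm p U (h.le_preimage hWU)).hom

theorem cmap_congr {W : T'.Opens} {p p' : W.toScheme ⟶ X} (e : p = p') (h : TComp t a W p)
    (h' : TComp t a W p') {U : X.Opens} (hWU : t ⁻¹ᵁ W ≤ a ⁻¹ᵁ U) :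
    cmap h hWU = cmap h' hWU := by
  subst e; rfl

theorem cmap_res {W W'' : T'.Opens} {p : W.toScheme ⟶ X} (h : TComp t a W p) (hle : W'' ≤ W)
    {U : X.Opens} (hWU : t ⁻¹ᵁ W ≤ a ⁻¹ᵁ U) (hWU'' : t ⁻¹ᵁ W'' ≤ a ⁻¹ᵁ U) :
    cmap (h.res hle) hWU'' = (T'.presheaf.map (homOfLE hle).op).hom.comp (cmap h hWU) := by
  have := cm_res hle p (le_refl U) (h.le_preimage hWU) ((h.res hle).le_preimage hWU'')
  have e : X.presheaf.map (homOfLE (le_refl U)).op = 𝟙 _ := by
    rw [← X.presheaf.map_id]; rfl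
  rw [e, Category.id_comp] at this
  ext x
  exact congr($(this).hom x)

theorem cmap_res_res {W W'' W3 : T'.Opens} {p : W.toScheme ⟶ X} (h : TComp t a W p)
    (hle : W'' ≤ W) (hle3 : W3 ≤ W'') (hle' : W3 ≤ W) {U : X.Opens}
    (hWU3 : t ⁻¹ᵁ W3 ≤ a ⁻¹ᵁ U) :
    cmap ((h.res hle).res hle3) hWU3 = cmap (h.res hle') hWU3 :=
  cmap_congr (Scheme.homOfLE_homOfLE_assoc _ _ _ _) _ _ _

theorem cmap_chart {W : T'.Opens} {p : W.toScheme ⟶ X} (h : TComp t a W p) {U U'' : X.Opens}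
    (hU : U'' ≤ U) (hWU : t ⁻¹ᵁ W ≤ a ⁻¹ᵁ U) (hWU'' : t ⁻¹ᵁ W ≤ a ⁻¹ᵁ U'') :
    (cmap h hWU'').comp (X.presheaf.map (homOfLE hU).op).hom = cmap h hWU := by
  have : X.presheaf.map (homOfLE hU).op ≫ cm p U'' (h.le_preimage hWU'') =
      cm p U (h.le_preimage hWU) := by
    simp only [cm]
    rw [← Category.assoc, Scheme.Hom.map_appLE]
  ext x
  exact congr($(this).hom x)

theorem cmap_res_chart {W W'' : T'.Opens} {p : W.toScheme ⟶ X} (h : TComp t a W p)
    (hle : W'' ≤ W) {U U'' : X.Opens} (hU : U'' ≤ U) (hWU : t ⁻¹ᵁ W ≤ a ⁻¹ᵁ U)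
    (hWU'' : t ⁻¹ᵁ W'' ≤ a ⁻¹ᵁ U'') :
    (cmap (h.res hle) hWU'').comp (X.presheaf.map (homOfLE hU).op).hom =
      (T'.presheaf.map (homOfLE hle).op).hom.comp (cmap h hWU) := by
  have h1 : t ⁻¹ᵁ W'' ≤ a ⁻¹ᵁ U := hWU''.trans (a.preimage_mono hU)
  rw [cmap_chart (h.res hle) hU h1 hWU'', cmap_res h hle hWU h1]

theorem cong_cmap {W : T'.Opens} (hW : IsAffineOpen W) {U : X.Opens} (hU : IsAffineOpen U)
    {p p' : W.toScheme ⟶ X} (h : TComp t a W p) (h' : TComp t a W p')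
    (hWU : t ⁻¹ᵁ W ≤ a ⁻¹ᵁ U) : Cong (J t W) (cmap h hWU) (cmap h' hWU) := by
  intro x
  have e1 := (tcomp_iff hW hU p (h.le_preimage hWU) hWU).1 h
  have e2 := (tcomp_iff hW hU p' (h'.le_preimage hWU) hWU).1 h'
  rw [J, RingHom.mem_ker, map_sub, sub_eq_zero]
  exact congr($(e2.trans e1.symm).hom x)

theorem cmap_base {W : T'.Opens} (hW : IsAffineOpen W) {U : X.Opens} {V : Y.Opens}
    (hV : IsAffineOpen V) {p : W.toScheme ⟶ X} (h : TComp t a W p) (h2 : FComp f b W p)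
    (hWU : t ⁻¹ᵁ W ≤ a ⁻¹ᵁ U) (hUV : U ≤ f ⁻¹ᵁ V) (hWV : W ≤ b ⁻¹ᵁ V) :
    (cmap h hWU).comp (f.appLE V U hUV).hom = (b.appLE V W hWV).hom := by
  have := (fcomp_iff hW hV p (h.le_preimage hWU) hUV hWV).1 h2
  ext x
  exact congr($(this).hom x)

theorem ext_cmap {W : T'.Opens} (hW : IsAffineOpen W) {U : X.Opens} (hU : IsAffineOpen U)
    {p p' : W.toScheme ⟶ X} (h : TComp t a W p) (h' : TComp t a W p')
    (hWU : t ⁻¹ᵁ W ≤ a ⁻¹ᵁ U) (e : cmap h hWU = cmap h' hWU) : p = p' :=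
  cm_injective hW hU p p' _ _ (CommRingCat.hom_ext e)

theorem exists_tcomp_cmap {W : T'.Opens} (hW : IsAffineOpen W) {U : X.Opens}
    (hU : IsAffineOpen U) (hWU : t ⁻¹ᵁ W ≤ a ⁻¹ᵁ U) {p₀ : W.toScheme ⟶ X}
    (h₀ : TComp t a W p₀) (ψ : Γ(X, U) →+* Γ(T', W)) (hc : Cong (J t W) (cmap h₀ hWU) ψ) :
    ∃ (p : W.toScheme ⟶ X) (h : TComp t a W p), cmap h hWU = ψ := by
  obtain ⟨p, hp, e⟩ := exists_cm_eq hW hU (CommRingCat.ofHom ψ)
  have e0 := (tcomp_iff hW hU p₀ (h₀.le_preimage hWU) hWU).1 h₀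
  have h : TComp t a W p := by
    rw [tcomp_iff hW hU p hp hWU, e, ← e0]
    ext x
    have := hc x
    rw [J, RingHom.mem_ker, map_sub, sub_eq_zero] at this
    exact this
  refine ⟨p, h, ?_⟩
  have : cm p U (h.le_preimage hWU) = CommRingCat.ofHom ψ := e
  unfold cmap
  rw [this]
  rfl

theorem fcomp_of_cmap {W : T'.Opens} (hW : IsAffineOpen W) {U : X.Opens} {V : Y.Opens}
    (hV : IsAffineOpen V) {p : W.toScheme ⟶ X} (h : TComp t a W p)
    (hWU : t ⁻¹ᵁ W ≤ a ⁻¹ᵁ U) (hUV : U ≤ f ⁻¹ᵁ V) (hWV : W ≤ b ⁻¹ᵁ V)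
    (hb : (cmap h hWU).comp (f.appLE V U hUV).hom = (b.appLE V W hWV).hom) : FComp f b W p := by
  rw [fcomp_iff hW hV p (h.le_preimage hWU) hUV hWV]
  ext x
  exact congr($hb x)

end Layer

section Transfer

variable {T T' X : Scheme.{u}} {t : T ⟶ T'} {a : T ⟶ X} [IsClosedImmersion t] [Surjective t]

/-- Being an affine combination of lifts does not depend on the chart. -/
theorem isComb_transfer (hsq : SqZero t) {ι : Type*} [Fintype ι] {W : T'.Opens}
    (hW : IsAffineOpen W) {U U' : X.Opens} (hU : IsAffineOpen U) (hU' : IsAffineOpen U')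
    (hWU : t ⁻¹ᵁ W ≤ a ⁻¹ᵁ U) (hWU' : t ⁻¹ᵁ W ≤ a ⁻¹ᵁ U')
    {p₀ p : W.toScheme ⟶ X} {ps : ι → (W.toScheme ⟶ X)} (h₀ : TComp t a W p₀)
    (hs : ∀ i, TComp t a W (ps i)) (h : TComp t a W p) (ws : ι → Γ(T', W))
    (hc : IsComb (cmap h₀ hWU) (fun i => cmap (hs i) hWU) ws (cmap h hWU)) :
    IsComb (cmap h₀ hWU') (fun i => cmap (hs i) hWU') ws (cmap h hWU') := by
  have hcs : ∀ i, Cong (J t W) (cmap h₀ hWU') (cmap (hs i) hWU') :=
    fun i => cong_cmap hW hU' h₀ (hs i) hWU'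
  obtain ⟨q, hq, eq⟩ := exists_tcomp_cmap hW hU' hWU' h₀
    (mcomb (J t W) (hsq W hW) (cmap h₀ hWU') (fun i => cmap (hs i) hWU') ws hcs)
    (mcomb_cong _ _ _ _ _ hcs)
  have key : q = p := by
    apply hom_ext_of_homOfLE
    intro w hw
    obtain ⟨z, rfl⟩ := t.surjective w
    have hzU : a z ∈ U := hWU hw
    have hzU' : a z ∈ U' := hWU' hw
    obtain ⟨β, β', e, hx⟩ := exists_basicOpen_le_affine_inter hU hU' (a z) ⟨hzU, hzU'⟩
    have hU'' : IsAffineOpen (X.basicOpen β) := hU.basicOpen β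
    have hle : X.basicOpen β ≤ U := X.basicOpen_le β
    have hle' : X.basicOpen β ≤ U' := e.le.trans (X.basicOpen_le β')
    have hopen : IsOpenMap t :=
      (t.isClosedEmbedding.isEmbedding.toHomeomorphOfSurjective t.surjective).isOpenMap
    let O₀ : T'.Opens :=
      ⟨t '' (a ⁻¹ᵁ (X.basicOpen β) : Set T), hopen _ (a ⁻¹ᵁ (X.basicOpen β)).2⟩
    obtain ⟨O, hO, hzO, hOle⟩ := exists_isAffineOpen_mem_and_subset
      (x := t z) (U := W ⊓ O₀) ⟨hw, z, hx, rfl⟩
    have hOW : O ≤ W := fun y hy => (hOle hy).1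
    have hOU'' : t ⁻¹ᵁ O ≤ a ⁻¹ᵁ (X.basicOpen β) := by
      intro z' hz'
      obtain ⟨z'', hz'', e⟩ := (hOle hz').2
      rw [← t.isClosedEmbedding.injective e]
      exact hz''
    refine ⟨O, hOW, hzO, ?_⟩
    apply ext_cmap hO hU'' (hq.res hOW) (h.res hOW) hOU''
    have hJ := hsq O hO
    have hcs'' : ∀ i, Cong (J t O) (cmap (h₀.res hOW) hOU'') (cmap ((hs i).res hOW) hOU'') :=
      fun i => cong_cmap hO hU'' _ _ hOU''
    have hσ : ∀ Θ Θ' : Γ(X, X.basicOpen β) →+* Γ(T', O),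
        Θ.comp (X.presheaf.map (homOfLE hle).op).hom =
          Θ'.comp (X.presheaf.map (homOfLE hle).op).hom → Θ = Θ' :=
      epi_of_away _ β (hU.isLocalization_of_eq_basicOpen β (homOfLE hle) rfl)
    have hσ' : ∀ Θ Θ' : Γ(X, X.basicOpen β) →+* Γ(T', O),
        Θ.comp (X.presheaf.map (homOfLE hle').op).hom =
          Θ'.comp (X.presheaf.map (homOfLE hle').op).hom → Θ = Θ' :=
      epi_of_away _ β' (hU'.isLocalization_of_eq_basicOpen β' (homOfLE hle') e)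
    have A : IsComb (cmap (h₀.res hOW) hOU'') (fun i => cmap ((hs i).res hOW) hOU'')
        (fun i => (T'.presheaf.map (homOfLE hOW).op).hom (ws i)) (cmap (h.res hOW) hOU'') := by
      apply IsComb.of_comp_right _ hσ hJ hcs''
      have := hc.comp_left (T'.presheaf.map (homOfLE hOW).op).hom
      have es : ∀ i, (T'.presheaf.map (homOfLE hOW).op).hom.comp (cmap (hs i) hWU) =
          (cmap ((hs i).res hOW) hOU'').comp (X.presheaf.map (homOfLE hle).op).hom :=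
        fun i => (cmap_res_chart (hs i) hOW hle hWU hOU'').symm
      rw [← cmap_res_chart h₀ hOW hle hWU hOU'', ← cmap_res_chart h hOW hle hWU hOU''] at this
      simp only [es] at this
      exact this
    have B : IsComb (cmap (h₀.res hOW) hOU'') (fun i => cmap ((hs i).res hOW) hOU'')
        (fun i => (T'.presheaf.map (homOfLE hOW).op).hom (ws i)) (cmap (hq.res hOW) hOU'') := by
      apply IsComb.of_comp_right _ hσ' hJ hcs''
      have := (isComb_mcomb (J t W) (hsq W hW) (cmap h₀ hWU') (fun i => cmap (hs i) hWU') ws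
        hcs).comp_left (T'.presheaf.map (homOfLE hOW).op).hom
      have es : ∀ i, (T'.presheaf.map (homOfLE hOW).op).hom.comp (cmap (hs i) hWU') =
          (cmap ((hs i).res hOW) hOU'').comp (X.presheaf.map (homOfLE hle').op).hom :=
        fun i => (cmap_res_chart (hs i) hOW hle' hWU' hOU'').symm
      rw [← eq] at this
      rw [← cmap_res_chart h₀ hOW hle' hWU' hOU'', ← cmap_res_chart hq hOW hle' hWU' hOU'']
        at this
      simp only [es] at this
      exact this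
    exact RingHom.ext fun x => (B x).trans (A x).symm
  subst key
  have : cmap h hWU' = _ := eq
  rw [this]
  exact isComb_mcomb _ _ _ _ _ hcs

end Transfer

section ExtLift

variable {T T' X Y : Scheme.{u}} {t : T ⟶ T'} {f : X ⟶ Y} {a : T ⟶ X} {b : T' ⟶ Y}
  [IsClosedImmersion t] [Surjective t]

/-- Extension of a lift from a basic open, after twisting by a power of the function. -/
theorem exists_ext_lift (hsq : SqZero t) [LocallyOfFinitePresentation f] {W : T'.Opens}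
    (hW : IsAffineOpen W) (hh : Γ(T', W)) {W'' : T'.Opens} (hle : W'' ≤ W)
    (e'' : W'' = T'.basicOpen hh) {U : X.Opens} {V : Y.Opens} (hU : IsAffineOpen U)
    (hV : IsAffineOpen V) (hUV : U ≤ f ⁻¹ᵁ V) (hWV : W ≤ b ⁻¹ᵁ V) (hWU : t ⁻¹ᵁ W ≤ a ⁻¹ᵁ U)
    (hWU'' : t ⁻¹ᵁ W'' ≤ a ⁻¹ᵁ U)
    {p : W.toScheme ⟶ X} (h1 : TComp t a W p) (h2 : FComp f b W p)
    {p' : W''.toScheme ⟶ X} (h1' : TComp t a W'' p') (h2' : FComp f b W'' p') :
    ∃ n₀ : ℕ, ∀ n, n₀ ≤ n → ∃ (E : W.toScheme ⟶ X) (hE : TComp t a W E), FComp f b W E ∧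
      IsComb (cmap (h1.res hle) hWU'') (fun _ : Unit => cmap h1' hWU'')
        (fun _ => (T'.presheaf.map (homOfLE hle).op).hom hh ^ n) (cmap (hE.res hle) hWU'') := by
  have hW'' : IsAffineOpen W'' := e'' ▸ hW.basicOpen hh
  have hWV'' : W'' ≤ b ⁻¹ᵁ V := hle.trans hWV
  have hA : @IsLocalization.Away _ _ hh Γ(T', W'') _
      (T'.presheaf.map (homOfLE hle).op).hom.toAlgebra :=
    hW.isLocalization_of_eq_basicOpen hh (homOfLE hle) e''
  have hTW : IsAffineOpen (t ⁻¹ᵁ W) := hW.preimage t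
  have eT : t ⁻¹ᵁ W'' = T.basicOpen ((t.app W).hom hh) := by
    rw [e'', Scheme.preimage_basicOpen]
  have hleT : t ⁻¹ᵁ W'' ≤ t ⁻¹ᵁ W := t.preimage_mono hle
  have hC : @IsLocalization.Away _ _ ((t.app W).hom hh) Γ(T, t ⁻¹ᵁ W'') _
      (T.presheaf.map (homOfLE hleT).op).hom.toAlgebra :=
    hTW.isLocalization_of_eq_basicOpen _ (homOfLE hleT) eT
  have comm : (t.app W'').hom.comp (T'.presheaf.map (homOfLE hle).op).hom =
      (T.presheaf.map (homOfLE hleT).op).hom.comp (t.app W).hom := by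
    ext x
    exact congr($(t.naturality (homOfLE hle).op).hom x)
  have fp : (f.appLE V U hUV).hom.FinitePresentation := f.finitePresentation_appLE hV hU hUV
  have hc : Cong (J t W'') ((T'.presheaf.map (homOfLE hle).op).hom.comp (cmap h1 hWU))
      (cmap h1' hWU'') := by
    rw [← cmap_res h1 hle hWU hWU'']
    exact cong_cmap hW'' hU _ _ hWU''
  have hb : (cmap h1' hWU'').comp (f.appLE V U hUV).hom =
      ((T'.presheaf.map (homOfLE hle).op).hom.comp (cmap h1 hWU)).comp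
        (f.appLE V U hUV).hom := by
    rw [← cmap_res h1 hle hWU hWU'', cmap_base hW'' hV h1' h2' hWU'' hUV hWV'',
      cmap_base hW'' hV (h1.res hle) (h2.res hle) hWU'' hUV hWV'']
  obtain ⟨n₀, H⟩ := exists_extension_ge (f.appLE V U hUV).hom fp
    (T'.presheaf.map (homOfLE hle).op).hom hh
    (J t W) (J t W'') (hsq W hW) (hsq W'' hW'') (inj_of_away _ hh hA)
    (surjJ_of_away _ _ (t.app W).hom (t.app W'').hom comm hh hA hC) (cmap h1 hWU)
    (cmap h1' hWU'') hc hb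
  refine ⟨n₀, fun n hn => ?_⟩
  obtain ⟨Λe, c1, c2, c3⟩ := H n hn
  obtain ⟨E, hE, eE⟩ := exists_tcomp_cmap hW hU hWU h1 Λe c1
  refine ⟨E, hE, fcomp_of_cmap hW hV hE hWU hUV hWV ?_, ?_⟩
  · rw [eE, c2]
    exact cmap_base hW hV h1 h2 hWU hUV hWV
  · intro x
    rw [cmap_res hE hle hWU hWU'', cmap_res h1 hle hWU hWU'', eE]
    simp only [RingHom.comp_apply, Finset.univ_unique, Finset.sum_singleton]
    exact c3 x

end ExtLift

section Cech

variable {T T' X Y : Scheme.{u}} {t : T ⟶ T'} {f : X ⟶ Y} {a : T ⟶ X} {b : T' ⟶ Y}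
  [IsClosedImmersion t] [Surjective t]

/-- Restriction of a global section. -/
noncomputable def rs (T' : Scheme.{u}) (O : T'.Opens) : Γ(T', ⊤) →+* Γ(T', O) :=
  (T'.presheaf.map (homOfLE le_top).op).hom

theorem map_rs {O O'' : T'.Opens} (hle : O'' ≤ O) (x : Γ(T', ⊤)) :
    (T'.presheaf.map (homOfLE hle).op).hom (rs T' O x) = rs T' O'' x := by
  unfold rs
  rw [← CommRingCat.comp_apply, ← Functor.map_comp]
  rfl

theorem basicOpen_rs (O : T'.Opens) (x : Γ(T', ⊤)) :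
    T'.basicOpen (rs T' O x) = O ⊓ T'.basicOpen x :=
  Scheme.basicOpen_res _ _ _

theorem isComb_res {ι : Type*} [Fintype ι] {W W'' : T'.Opens} (hle : W'' ≤ W) {U : X.Opens}
    (hWU : t ⁻¹ᵁ W ≤ a ⁻¹ᵁ U) (hWU'' : t ⁻¹ᵁ W'' ≤ a ⁻¹ᵁ U)
    {p₀ p : W.toScheme ⟶ X} {ps : ι → (W.toScheme ⟶ X)} (h₀ : TComp t a W p₀)
    (hs : ∀ i, TComp t a W (ps i)) (h : TComp t a W p) (ws : ι → Γ(T', W))
    (hc : IsComb (cmap h₀ hWU) (fun i => cmap (hs i) hWU) ws (cmap h hWU)) :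
    IsComb (cmap (h₀.res hle) hWU'') (fun i => cmap ((hs i).res hle) hWU'')
      (fun i => (T'.presheaf.map (homOfLE hle).op).hom (ws i)) (cmap (h.res hle) hWU'') := by
  have := hc.comp_left (T'.presheaf.map (homOfLE hle).op).hom
  have es : ∀ i, (T'.presheaf.map (homOfLE hle).op).hom.comp (cmap (hs i) hWU) =
      cmap ((hs i).res hle) hWU'' := fun i => (cmap_res (hs i) hle hWU hWU'').symm
  rw [← cmap_res h₀ hle hWU hWU'', ← cmap_res h hle hWU hWU''] at this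
  simp only [es] at this
  exact this

/-- The Čech cocycle defect of the extended lifts is killed by a power of the function. -/
theorem exists_tor (hsq : SqZero t) [LocallyOfFinitePresentation f] {O O3 : T'.Opens}
    (hO : IsAffineOpen O) (gl : Γ(T', O)) (hle : O3 ≤ O) (e3 : O3 = T'.basicOpen gl)
    {U : X.Opens} {V : Y.Opens} (hU : IsAffineOpen U) (hV : IsAffineOpen V)
    (hUV : U ≤ f ⁻¹ᵁ V) (hOV : O ≤ b ⁻¹ᵁ V) (hOU : t ⁻¹ᵁ O ≤ a ⁻¹ᵁ U)
    (hO3U : t ⁻¹ᵁ O3 ≤ a ⁻¹ᵁ U)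
    {pk pm pkl pml : O.toScheme ⟶ X} (hk : TComp t a O pk) (hk2 : FComp f b O pk)
    (hm : TComp t a O pm) (hm2 : FComp f b O pm) (hkl : TComp t a O pkl)
    (hkl2 : FComp f b O pkl) (hml : TComp t a O pml) (hml2 : FComp f b O pml)
    {pk3 pm3 pkl3 pml3 pl : O3.toScheme ⟶ X} (hk3 : TComp t a O3 pk3) (hm3 : TComp t a O3 pm3)
    (hkl3 : TComp t a O3 pkl3) (hml3 : TComp t a O3 pml3) (hl : TComp t a O3 pl)
    (ek : cmap hk3 hO3U = (T'.presheaf.map (homOfLE hle).op).hom.comp (cmap hk hOU))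
    (em : cmap hm3 hO3U = (T'.presheaf.map (homOfLE hle).op).hom.comp (cmap hm hOU))
    (ekl : cmap hkl3 hO3U = (T'.presheaf.map (homOfLE hle).op).hom.comp (cmap hkl hOU))
    (eml : cmap hml3 hO3U = (T'.presheaf.map (homOfLE hle).op).hom.comp (cmap hml hOU))
    (N : ℕ) (wN : Γ(T', O3)) (hwN : wN = (T'.presheaf.map (homOfLE hle).op).hom gl ^ N)
    (c1 : IsComb (cmap hk3 hO3U) (fun _ : Unit => cmap hl hO3U) (fun _ => wN) (cmap hkl3 hO3U))
    (c2 : IsComb (cmap hm3 hO3U) (fun _ : Unit => cmap hl hO3U) (fun _ => wN)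
      (cmap hml3 hO3U)) :
    ∃ N' : ℕ, ∀ x, gl ^ N' * ((cmap hkl hOU x - cmap hk hOU x) -
      (cmap hml hOU x - cmap hm hOU x) - gl ^ N * (cmap hm hOU x - cmap hk hOU x)) = 0 := by
  have hA : @IsLocalization.Away _ _ gl Γ(T', O3) _
      (T'.presheaf.map (homOfLE hle).op).hom.toAlgebra :=
    hO.isLocalization_of_eq_basicOpen gl (homOfLE hle) e3
  have hJ := hsq O hO
  have fp : (f.appLE V U hUV).hom.FiniteType :=
    RingHom.FiniteType.of_finitePresentation (f.finitePresentation_appLE hV hU hUV)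
  have bk := cmap_base hO hV hk hk2 hOU hUV hOV
  have bm := cmap_base hO hV hm hm2 hOU hUV hOV
  have bkl := cmap_base hO hV hkl hkl2 hOU hUV hOV
  have bml := cmap_base hO hV hml hml2 hOU hUV hOV
  have D1 : IsDer (J t O) (cmap hk hOU) (f.appLE V U hUV).hom
      (fun x => cmap hkl hOU x - cmap hk hOU x) :=
    isDer_sub_of_cong hJ (cong_cmap hO hU hk hkl hOU) (Cong.refl _ _) (bkl.trans bk.symm) rfl
  have D2 : IsDer (J t O) (cmap hk hOU) (f.appLE V U hUV).hom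
      (fun x => cmap hml hOU x - cmap hm hOU x) :=
    isDer_sub_of_cong hJ (cong_cmap hO hU hk hml hOU) (cong_cmap hO hU hk hm hOU)
      (bml.trans bk.symm) (bm.trans bk.symm)
  have D3 : IsDer (J t O) (cmap hk hOU) (f.appLE V U hUV).hom
      (fun x => cmap hm hOU x - cmap hk hOU x) :=
    isDer_sub_of_cong hJ (cong_cmap hO hU hk hm hOU) (Cong.refl _ _) (bm.trans bk.symm) rfl
  have D := (D1.sub D2).sub (D3.smul (gl ^ N))
  refine IsDer.exists_pow_mul_eq_zero (T'.presheaf.map (homOfLE hle).op).hom gl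
    (inj_of_away _ gl hA) fp D ?_
  intro x
  have c1x := c1 x
  have c2x := c2 x
  rw [ek, ekl] at c1x
  rw [em, eml] at c2x
  simp only [RingHom.comp_apply, Finset.univ_unique, Finset.sum_singleton] at c1x c2x
  simp only [map_sub, map_mul, map_pow]
  rw [c1x, c2x, hwN]
  ring

theorem cmap_res' {W W'' W3 : T'.Opens} {p : W.toScheme ⟶ X} (h : TComp t a W p)
    (hle : W'' ≤ W) (hle3 : W3 ≤ W'') (hle' : W3 ≤ W) {U : X.Opens}
    (hWU'' : t ⁻¹ᵁ W'' ≤ a ⁻¹ᵁ U) (hWU3 : t ⁻¹ᵁ W3 ≤ a ⁻¹ᵁ U) :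
    cmap (h.res hle') hWU3 =
      (T'.presheaf.map (homOfLE hle3).op).hom.comp (cmap (h.res hle) hWU'') := by
  rw [← cmap_res (h.res hle) hle3 hWU'' hWU3, cmap_res_res h hle hle3 hle']

/-- **Čech gluing of lifts** over a finite cover of an affine scheme by good basic opens. -/
theorem exists_lift_of_cover [IsAffine T'] (hsq : SqZero t) [LocallyOfFinitePresentation f]
    {K : Type*} [Fintype K] (g : K → Γ(T', ⊤)) (hg : Ideal.span (Set.range g) = ⊤)
    (U : K → X.Opens) (V : K → Y.Opens) (hU : ∀ k, IsAffineOpen (U k))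
    (hV : ∀ k, IsAffineOpen (V k)) (hUV : ∀ k, U k ≤ f ⁻¹ᵁ V k)
    (hWV : ∀ k, T'.basicOpen (g k) ≤ b ⁻¹ᵁ V k)
    (hWU : ∀ k, t ⁻¹ᵁ T'.basicOpen (g k) ≤ a ⁻¹ᵁ U k)
    (P : ∀ k, (T'.basicOpen (g k)).toScheme ⟶ X) (hP1 : ∀ k, TComp t a _ (P k))
    (hP2 : ∀ k, FComp f b _ (P k)) : ∃ l : T' ⟶ X, t ≫ l = a ∧ l ≫ f = b := by
  classical
  have hW : ∀ k, IsAffineOpen (T'.basicOpen (g k)) :=
    fun k => (isAffineOpen_top T').basicOpen (g k)
  have hW2 : ∀ k m, IsAffineOpen (T'.basicOpen (g k) ⊓ T'.basicOpen (g m)) := fun k m => by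
    rw [← Scheme.basicOpen_mul]; exact (isAffineOpen_top T').basicOpen _
  have hW3 : ∀ k m l, IsAffineOpen
      (T'.basicOpen (g k) ⊓ T'.basicOpen (g m) ⊓ T'.basicOpen (g l)) := fun k m l => by
    rw [← Scheme.basicOpen_mul, ← Scheme.basicOpen_mul]; exact (isAffineOpen_top T').basicOpen _
  have hU2 : ∀ k m, t ⁻¹ᵁ (T'.basicOpen (g k) ⊓ T'.basicOpen (g m)) ≤ a ⁻¹ᵁ U k :=
    fun k m z hz => hWU k hz.1
  have hU2' : ∀ k m, t ⁻¹ᵁ (T'.basicOpen (g k) ⊓ T'.basicOpen (g m)) ≤ a ⁻¹ᵁ U m :=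
    fun k m z hz => hWU m hz.2
  -- Step 1: extensions
  have step1 : ∀ k l, ∃ n₀ : ℕ, ∀ n, n₀ ≤ n → ∃ (E : (T'.basicOpen (g k)).toScheme ⟶ X)
      (hE : TComp t a _ E), FComp f b _ E ∧
      IsComb (cmap ((hP1 k).res inf_le_left) (hU2 k l))
        (fun _ : Unit => cmap ((hP1 l).res inf_le_right) (hU2 k l))
        (fun _ => rs T' (T'.basicOpen (g k) ⊓ T'.basicOpen (g l)) (g l) ^ n)
        (cmap (hE.res inf_le_left) (hU2 k l)) := fun k l => by
    have := exists_ext_lift hsq (hW k) (rs T' _ (g l))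
      (inf_le_left : T'.basicOpen (g k) ⊓ T'.basicOpen (g l) ≤ _) (basicOpen_rs _ _).symm (hU k)
      (hV k) (hUV k) (hWV k) (hWU k) (hU2 k l) (hP1 k) (hP2 k) ((hP1 l).res inf_le_right)
      ((hP2 l).res inf_le_right)
    simpa only [map_rs] using this
  choose n₀ hn₀ using step1
  let N : ℕ := Finset.univ.sup (fun kl : K × K => n₀ kl.1 kl.2)
  have hN : ∀ k l, n₀ k l ≤ N := fun k l =>
    Finset.le_sup (f := fun kl : K × K => n₀ kl.1 kl.2) (Finset.mem_univ (k, l))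
  choose E hE1 hE2 hEc using fun k l => hn₀ k l N (hN k l)
  -- Step 2: torsion exponents on triple overlaps
  have hU3 : ∀ k m l, t ⁻¹ᵁ (T'.basicOpen (g k) ⊓ T'.basicOpen (g m) ⊓ T'.basicOpen (g l)) ≤
      a ⁻¹ᵁ U k := fun k m l z hz => hWU k hz.1.1
  have hU3' : ∀ k m l, t ⁻¹ᵁ (T'.basicOpen (g k) ⊓ T'.basicOpen (g m) ⊓ T'.basicOpen (g l)) ≤
      a ⁻¹ᵁ U m := fun k m l z hz => hWU m hz.1.2
  have le3k : ∀ k m l, T'.basicOpen (g k) ⊓ T'.basicOpen (g m) ⊓ T'.basicOpen (g l) ≤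
      T'.basicOpen (g k) := fun k m l => inf_le_left.trans inf_le_left
  have le3m : ∀ k m l, T'.basicOpen (g k) ⊓ T'.basicOpen (g m) ⊓ T'.basicOpen (g l) ≤
      T'.basicOpen (g m) := fun k m l => inf_le_left.trans inf_le_right
  have le3l : ∀ k m l, T'.basicOpen (g k) ⊓ T'.basicOpen (g m) ⊓ T'.basicOpen (g l) ≤
      T'.basicOpen (g l) := fun k m l => inf_le_right
  have le3kl : ∀ k m l, T'.basicOpen (g k) ⊓ T'.basicOpen (g m) ⊓ T'.basicOpen (g l) ≤
      T'.basicOpen (g k) ⊓ T'.basicOpen (g l) := fun k m l => le_inf (le3k k m l) inf_le_right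
  have le3ml : ∀ k m l, T'.basicOpen (g k) ⊓ T'.basicOpen (g m) ⊓ T'.basicOpen (g l) ≤
      T'.basicOpen (g m) ⊓ T'.basicOpen (g l) := fun k m l => le_inf (le3m k m l) inf_le_right
  have c1 : ∀ k m l, IsComb (cmap ((hP1 k).res (le3k k m l)) (hU3 k m l))
      (fun _ : Unit => cmap ((hP1 l).res (le3l k m l)) (hU3 k m l))
      (fun _ => rs T' _ (g l) ^ N) (cmap ((hE1 k l).res (le3k k m l)) (hU3 k m l)) := by
    intro k m l
    have c := isComb_res (le3kl k m l) (hU2 k l) (hU3 k m l) ((hP1 k).res inf_le_left)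
      (fun _ : Unit => (hP1 l).res inf_le_right) ((hE1 k l).res inf_le_left) _ (hEc k l)
    rw [cmap_res_res (hP1 k) _ _ (le3k k m l), cmap_res_res (hE1 k l) _ _ (le3k k m l)] at c
    simp only [cmap_res_res (hP1 l) _ _ (le3l k m l), map_pow, map_rs] at c
    exact c
  have c2 : ∀ k m l, IsComb (cmap ((hP1 m).res (le3m k m l)) (hU3 k m l))
      (fun _ : Unit => cmap ((hP1 l).res (le3l k m l)) (hU3 k m l))
      (fun _ => rs T' _ (g l) ^ N) (cmap ((hE1 m l).res (le3m k m l)) (hU3 k m l)) := by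
    intro k m l
    have c := isComb_res (le3ml k m l) (hU2 m l) (hU3' k m l) ((hP1 m).res inf_le_left)
      (fun _ : Unit => (hP1 l).res inf_le_right) ((hE1 m l).res inf_le_left) _ (hEc m l)
    rw [cmap_res_res (hP1 m) _ _ (le3m k m l), cmap_res_res (hE1 m l) _ _ (le3m k m l)] at c
    simp only [cmap_res_res (hP1 l) _ _ (le3l k m l), map_pow, map_rs] at c
    exact isComb_transfer hsq (hW3 k m l) (hU m) (hU k) (hU3' k m l) (hU3 k m l) _ _ _ _ c
  have step2 := fun k m l => exists_tor hsq (hW2 k m) (rs T' _ (g l))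
    (inf_le_left : T'.basicOpen (g k) ⊓ T'.basicOpen (g m) ⊓ T'.basicOpen (g l) ≤ _)
    (basicOpen_rs _ _).symm (hU k) (hV k) (hUV k)
    (inf_le_left.trans (hWV k)) (hU2 k m) (hU3 k m l)
    ((hP1 k).res inf_le_left) ((hP2 k).res inf_le_left)
    ((hP1 m).res inf_le_right) ((hP2 m).res inf_le_right)
    ((hE1 k l).res inf_le_left) ((hE2 k l).res inf_le_left)
    ((hE1 m l).res inf_le_right) ((hE2 m l).res inf_le_right)
    ((hP1 k).res (le3k k m l)) ((hP1 m).res (le3m k m l)) ((hE1 k l).res (le3k k m l))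
    ((hE1 m l).res (le3m k m l)) ((hP1 l).res (le3l k m l))
    (cmap_res' (hP1 k) _ _ _ _ _) (cmap_res' (hP1 m) _ _ _ _ _)
    (cmap_res' (hE1 k l) _ _ _ _ _) (cmap_res' (hE1 m l) _ _ _ _ _)
    N (rs T' _ (g l) ^ N) (by rw [map_rs]) (c1 k m l) (c2 k m l)
  choose N3 hN3 using step2
  let N' : ℕ := Finset.univ.sup (fun kml : K × K × K => N3 kml.1 kml.2.1 kml.2.2)
  have hN'le : ∀ k m l, N3 k m l ≤ N' := fun k m l =>
    Finset.le_sup (f := fun kml : K × K × K => N3 kml.1 kml.2.1 kml.2.2)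
      (Finset.mem_univ (k, m, l))
  -- Step 3: partition of unity and the corrected lifts
  have hspan : Ideal.span (Set.range fun l => g l ^ (N + N')) = ⊤ := by
    have := Ideal.span_pow_eq_top (Set.range g) hg (N + N')
    rw [← Set.range_comp] at this
    exact this
  have h1mem : (1 : Γ(T', ⊤)) ∈ Ideal.span (Set.range fun l => g l ^ (N + N')) := by
    rw [hspan]; trivial
  obtain ⟨c, hc⟩ := Ideal.mem_span_range_iff_exists_fun.1 h1mem
  have hcsK : ∀ k l, Cong (J t _) (cmap (hP1 k) (hWU k)) (cmap (hE1 k l) (hWU k)) :=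
    fun k l => cong_cmap (hW k) (hU k) _ _ _
  have step3 : ∀ k, ∃ (P' : (T'.basicOpen (g k)).toScheme ⟶ X) (h' : TComp t a _ P'),
      cmap h' (hWU k) = mcomb (J t _) (hsq _ (hW k)) (cmap (hP1 k) (hWU k))
        (fun l => cmap (hE1 k l) (hWU k)) (fun l => rs T' _ (c l * g l ^ N')) (hcsK k) :=
    fun k => exists_tcomp_cmap (hW k) (hU k) (hWU k) (hP1 k) _ (mcomb_cong _ _ _ _ _ _)
  choose P' hP'1 hP'e using step3
  have hP'2 : ∀ k, FComp f b _ (P' k) := fun k =>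
    fcomp_of_cmap (hW k) (hV k) (hP'1 k) (hWU k) (hUV k) (hWV k) (by
      rw [hP'e]
      ext r
      have e0 : cmap (hP1 k) (hWU k) ((f.appLE (V k) (U k) (hUV k)).hom r) =
          (b.appLE (V k) _ (hWV k)).hom r :=
        congr($(cmap_base (hW k) (hV k) (hP1 k) (hP2 k) (hWU k) (hUV k) (hWV k)) r)
      have e1 : ∀ l, cmap (hE1 k l) (hWU k) ((f.appLE (V k) (U k) (hUV k)).hom r) =
          (b.appLE (V k) _ (hWV k)).hom r := fun l =>
        congr($(cmap_base (hW k) (hV k) (hE1 k l) (hE2 k l) (hWU k) (hUV k) (hWV k)) r)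
      simp only [RingHom.comp_apply, mcomb_apply, e0, e1, sub_self, mul_zero,
        Finset.sum_const_zero, add_zero])
  -- Step 4: agreement on overlaps
  have step4 : ∀ k m,
      T'.homOfLE (inf_le_left : T'.basicOpen (g k) ⊓ T'.basicOpen (g m) ≤ _) ≫ P' k =
        T'.homOfLE (inf_le_right : T'.basicOpen (g k) ⊓ T'.basicOpen (g m) ≤ _) ≫ P' m := by
    intro k m
    apply ext_cmap (hW2 k m) (hU k) ((hP'1 k).res inf_le_left) ((hP'1 m).res inf_le_right)
      (hU2 k m)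
    have L := isComb_res (inf_le_left : T'.basicOpen (g k) ⊓ T'.basicOpen (g m) ≤ _) (hWU k)
      (hU2 k m) (hP1 k) (hE1 k) (hP'1 k) _
      (by rw [hP'e k]; exact isComb_mcomb _ _ _ _ _ _)
    have R0 := isComb_res (inf_le_right : T'.basicOpen (g k) ⊓ T'.basicOpen (g m) ≤ _) (hWU m)
      (hU2' k m) (hP1 m) (hE1 m) (hP'1 m) _
      (by rw [hP'e m]; exact isComb_mcomb _ _ _ _ _ _)
    have R := isComb_transfer hsq (hW2 k m) (hU m) (hU k) (hU2' k m) (hU2 k m) _ _ _ _ R0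
    ext x
    rw [L x, R x]
    simp only [map_rs, map_mul, map_pow]
    refine cech_eq (fun l => rs T' _ (c l)) (fun l => rs T' _ (g l)) N N' ?_ _ _ _ _
      (fun l => ?_)
    · have := congrArg (rs T' (T'.basicOpen (g k) ⊓ T'.basicOpen (g m))) hc
      simpa only [map_sum, map_mul, map_pow, map_one] using this
    · have := hN3 k m l x
      rw [← Nat.sub_add_cancel (hN'le k m l), pow_add, mul_assoc, this, mul_zero]
  -- Step 5: glue
  have hcov : IsOpenCover (fun k => T'.basicOpen (g k)) := by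
    have h := (IsAffineOpen.iSup_basicOpen_eq_self_iff (isAffineOpen_top T')
      (s := Set.range g)).2 hg
    refine IsOpenCover.mk (eq_top_iff.2 fun x hx => ?_)
    rw [← h] at hx
    obtain ⟨⟨_, k, rfl⟩, hk⟩ := Opens.mem_iSup.1 hx
    exact Opens.mem_iSup.2 ⟨k, hk⟩
  let 𝒰 := T'.openCoverOfIsOpenCover _ hcov
  have compat : ∀ k m : K, Limits.pullback.fst (𝒰.f k) (𝒰.f m) ≫ P' k =
      Limits.pullback.snd (𝒰.f k) (𝒰.f m) ≫ P' m := by
    intro k m
    have pb := isPullback_opens_inf (T'.basicOpen (g k)) (T'.basicOpen (g m))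
    change Limits.pullback.fst (T'.basicOpen (g k)).ι (T'.basicOpen (g m)).ι ≫ P' k =
      Limits.pullback.snd (T'.basicOpen (g k)).ι (T'.basicOpen (g m)).ι ≫ P' m
    rw [← cancel_epi pb.isoPullback.hom]
    have e1 : pb.isoPullback.hom ≫
        Limits.pullback.fst (T'.basicOpen (g k)).ι (T'.basicOpen (g m)).ι = _ :=
      pb.isoPullback_hom_fst
    have e2 : pb.isoPullback.hom ≫
        Limits.pullback.snd (T'.basicOpen (g k)).ι (T'.basicOpen (g m)).ι = _ :=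
      pb.isoPullback_hom_snd
    rw [reassoc_of% e1, reassoc_of% e2]
    exact step4 k m
  let l : T' ⟶ X := 𝒰.glueMorphisms P' compat
  have hl : ∀ k, (T'.basicOpen (g k)).ι ≫ l = P' k := fun k => 𝒰.ι_glueMorphisms P' compat k
  refine ⟨l, ?_, ?_⟩
  · apply Scheme.hom_ext_of_forall
    intro z
    obtain ⟨k, hk⟩ := hcov.exists_mem (t z)
    refine ⟨t ⁻¹ᵁ T'.basicOpen (g k), hk, ?_⟩
    rw [← morphismRestrict_ι_assoc, hl k]
    exact hP'1 k
  · apply Scheme.hom_ext_of_forall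
    intro x
    obtain ⟨k, hk⟩ := hcov.exists_mem x
    refine ⟨T'.basicOpen (g k), hk, ?_⟩
    rw [reassoc_of% hl k]
    exact hP'2 k

end Cech

section Core

variable {T T' X Y : Scheme.{u}} (t : T ⟶ T') (f : X ⟶ Y) (a : T ⟶ X) (b : T' ⟶ Y)

open Groth.Agent.Helper2.FormalLib in
/-- Lifts along a first order thickening of an affine scheme exist globally as soon as they
exist locally (target locally of finite presentation). -/
theorem exists_lift_of_local [IsClosedImmersion t] [Surjective t] [IsAffine T']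
    (hsq : SqZero t) [LocallyOfFinitePresentation f] (w : t ≫ b = a ≫ f)
    (hloc : ∀ x : T', ∃ (W : T'.Opens) (p : W.toScheme ⟶ X),
      x ∈ W ∧ TComp t a W p ∧ FComp f b W p) :
    ∃ l : T' ⟶ X, t ≫ l = a ∧ l ≫ f = b := by
  classical
  let S : Set Γ(T', ⊤) := {g | IsGood t f a b (T'.basicOpen g) ∧
    ∃ p : (T'.basicOpen g).toScheme ⟶ X, TComp t a _ p ∧ FComp f b _ p}
  have hS : Ideal.span S = ⊤ := by
    rw [← IsAffineOpen.iSup_basicOpen_eq_self_iff (isAffineOpen_top T'), eq_top_iff]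
    intro x _
    obtain ⟨W₀, p, hx, h1, h2⟩ := hloc x
    obtain ⟨W₁, hg, hx1, hle⟩ := exists_isGood t f a b w x W₀ hx
    obtain ⟨_, ⟨g, rfl⟩, hxg, hgle⟩ := Opens.isBasis_iff_nbhd.1 (isBasis_basicOpen T') hx1
    have hgS : g ∈ S := ⟨IsGood.of_le t f a b hg ((isAffineOpen_top T').basicOpen g) hgle,
      T'.homOfLE (hgle.trans hle) ≫ p, h1.res _, h2.res _⟩
    exact Opens.mem_iSup.2 ⟨⟨g, hgS⟩, hxg⟩
  obtain ⟨s, hsS, hs⟩ := (Ideal.span_eq_top_iff_finite S).1 hS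
  have hmem : ∀ k : s, (k : Γ(T', ⊤)) ∈ S := fun k => hsS k.2
  choose hgood P hP1 hP2 using hmem
  choose hWaff U V hU hV hUV hWV hWU using hgood
  have hrange : Set.range (fun k : s => (k : Γ(T', ⊤))) = (s : Set Γ(T', ⊤)) := by
    ext x
    constructor
    · rintro ⟨k, rfl⟩
      exact k.2
    · intro hx
      exact ⟨⟨x, hx⟩, rfl⟩
  exact exists_lift_of_cover hsq (fun k : s => (k : Γ(T', ⊤))) (by rw [hrange]; exact hs)
    U V hU hV hUV hWV hWU P hP1 hP2

theorem surjective_of_sqZero [IsClosedImmersion t] (hsq : SqZero t) : Function.Surjective t := by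
  intro x
  obtain ⟨U, hU, hxU, -⟩ := exists_isAffineOpen_mem_and_subset (x := x) (U := ⊤) trivial
  have hx : x ∈ t.ker.support := by
    rw [Scheme.IdealSheafData.mem_support_iff_of_mem (U := ⟨U, hU⟩) hxU,
      Scheme.mem_zeroLocus_iff]
    intro s hs hxs
    have hs' : s ∈ J t U := by
      rw [Scheme.Hom.ker_apply] at hs
      exact hs
    have h0 := hsq U hU s hs' s hs'
    have h1 : T'.basicOpen s = ⊥ := by
      have := Scheme.basicOpen_mul T' s s
      rw [h0, Scheme.basicOpen_zero, inf_idem] at this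
      exact this.symm
    rw [h1] at hxs
    exact hxs
  have h2 : x ∈ closure (Set.range t) := by
    rw [← t.support_ker]
    exact hx
  rw [t.isClosedEmbedding.isClosed_range.closure_eq] at h2
  exact h2

theorem sqZero_of_ker_mul [IsClosedImmersion t] (hk : t.ker * t.ker = ⊥) : SqZero t := by
  intro W hW x hx y hy
  have h1 : x ∈ t.ker.ideal ⟨W, hW⟩ := by
    rw [Scheme.Hom.ker_apply]; exact hx
  have h2 : y ∈ t.ker.ideal ⟨W, hW⟩ := by
    rw [Scheme.Hom.ker_apply]; exact hy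
  have h3 : x * y ∈ (t.ker * t.ker).ideal ⟨W, hW⟩ := by
    rw [Scheme.IdealSheafData.ideal_mul]
    exact Ideal.mul_mem_mul h1 h2
  rw [hk, Scheme.IdealSheafData.ideal_bot] at h3
  exact h3

end Core

section Final

/-- Global lifts along a first order thickening of an affine scheme from local lifts. -/
theorem exists_lift_thickening {S X T T₀ : Scheme.{u}} (f : X ⟶ S)
    [LocallyOfFinitePresentation f] (i : T₀ ⟶ T) [IsClosedImmersion i] [IsAffine T₀]
    (hsq : ∀ (U : T.affineOpens) (x y : Γ(T, U.1)),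
      x ∈ RingHom.ker (i.app U.1).hom → y ∈ RingHom.ker (i.app U.1).hom → x * y = 0)
    (a : T ⟶ S) (a₀ : T₀ ⟶ X) (hsqr : a₀ ≫ f = i ≫ a)
    (hloc : ∀ x : T, ∃ (W : T.Opens) (p : W.toScheme ⟶ X), x ∈ W ∧
      (i ∣_ W) ≫ p = (i ⁻¹ᵁ W).ι ≫ a₀ ∧ p ≫ f = W.ι ≫ a) :
    ∃ b' : T ⟶ X, b' ≫ f = a ∧ i ≫ b' = a₀ := by
  have hsq' : SqZero i := fun W hW x hx y hy => hsq ⟨W, hW⟩ x y hx hy
  have hsurj : Function.Surjective i := surjective_of_sqZero i hsq'
  haveI : Surjective i := ⟨hsurj⟩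
  haveI : IsAffine T := H9ThickAff.isAffine_of_thickening i hsurj
  obtain ⟨l, h1, h2⟩ := exists_lift_of_local i f a₀ a hsq' hsqr.symm hloc
  exact ⟨l, h2, h1⟩

end Final

end Groth.Agent.Helper2.SmLift
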