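import Mathlib
import Groth.Prelude.Def_MoreMor
import Groth.Agent.Lib.Helper2.SmLift.Glue
import Groth.Agent.Lib.Helper2.Formal.EtaleHom

/-!
# Smooth morphisms are the formally smooth morphisms locally of finite presentation
-/

set_option autoImplicit false
set_option backward.isDefEq.respectTransparency.types false
set_option synthInstance.maxHeartbeats 400000
set_option maxHeartbeats 4000000
set_option linter.style.haveILetI false
set_option linter.unusedSectionVars false
set_option linter.unusedVariables false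
set_option linter.unusedSimpArgs false
set_option linter.unnecessarySimpa false

universe u

open AlgebraicGeometry CategoryTheory TopologicalSpace Opposite
open Groth.Agent.Helper2.FormalLib

namespace Groth.Agent.Helper2.SmLift

/-- Ring level infinitesimal lifting for a formally smooth ring map. -/
theorem exists_lift_formallySmooth {R B A C : Type*} [CommRing R] [CommRing B] [CommRing A]
    [CommRing C] (φ : R →+* B) (hφ : φ.FormallySmooth) (β : R →+* A) (α : B →+* C)
    (q : A →+* C) (hq : Function.Surjective q)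
    (hsq : ∀ x ∈ RingHom.ker q, ∀ y ∈ RingHom.ker q, x * y = 0)
    (comm : α.comp φ = q.comp β) : ∃ ψ : B →+* A, q.comp ψ = α ∧ ψ.comp φ = β := by
  letI : Algebra R B := φ.toAlgebra
  letI : Algebra R A := β.toAlgebra
  letI : Algebra R C := (q.comp β).toAlgebra
  haveI : Algebra.FormallySmooth R B := hφ
  let α' : B →ₐ[R] C := { α with commutes' := fun r => congr($comm r) }
  let g : A →ₐ[R] C := { q with commutes' := fun r => rfl }
  have hnil : IsNilpotent (RingHom.ker (g : A →+* C)) := ⟨2, by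
    rw [pow_two, Ideal.zero_eq_bot, ← le_bot_iff, Ideal.mul_le]
    intro x hx y hy
    exact hsq x hx y hy⟩
  let l := Algebra.FormallySmooth.liftOfSurjective α' g hq hnil
  refine ⟨l.toRingHom, ?_, ?_⟩
  · ext x
    exact Algebra.FormallySmooth.liftOfSurjective_apply α' g hq hnil x
  · ext r
    exact l.commutes r

section

variable {T T' X Y : Scheme.{u}}

theorem el_of_iso_right {X₁ Y₁ : Scheme.{u}} {t : T ⟶ T'} {f : X ⟶ Y} (h : EL t f)
    (e : X₁ ≅ X) (e' : Y ≅ Y₁) : EL t (e.hom ≫ f ≫ e'.hom) := by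
  intro a b w
  obtain ⟨l, h1, h2⟩ := h (a ≫ e.hom) (b ≫ e'.inv) (by
    rw [reassoc_of% w]; simp)
  refine ⟨l ≫ e.inv, ?_, ?_⟩
  · rw [reassoc_of% h1]; simp
  · simp only [Category.assoc, Iso.inv_hom_id_assoc]
    rw [reassoc_of% h2]; simp

theorem formallySmooth_of_ringEquiv {R S : Type*} [CommRing R] [CommRing S] (e : R ≃+* S) :
    e.toRingHom.FormallySmooth :=
  RingHom.FormallySmooth.of_bijective e.bijective

theorem formallySmooth_appLE_of_resLE (f : X ⟶ Y) (U : X.Opens) (V : Y.Opens)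
    (hUV : U ≤ f ⁻¹ᵁ V) (hf : (f.resLE V U hUV).appTop.hom.FormallySmooth) :
    (f.appLE V U hUV).hom.FormallySmooth := by
  have h0 : (f.resLE V U hUV).appTop = V.topIso.hom ≫ f.appLE V U hUV ≫ U.topIso.inv :=
    Scheme.Hom.resLE_app_top f hUV
  have : f.appLE V U hUV = V.topIso.inv ≫ (f.resLE V U hUV).appTop ≫ U.topIso.hom := by
    rw [h0]
    simp only [Category.assoc, Iso.inv_hom_id, Category.comp_id, Iso.inv_hom_id_assoc]
  rw [this, CommRingCat.hom_comp, CommRingCat.hom_comp]
  exact ((formallySmooth_of_ringEquiv V.topIso.symm.commRingCatIsoToRingEquiv).comp hf).comp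
    (formallySmooth_of_ringEquiv U.topIso.commRingCatIsoToRingEquiv)

/-- Existence of lifts in Spec form gives a formally smooth ring map. -/
theorem formallySmooth_of_el_spec {R B : Type u} [CommRing R] [CommRing B] (φ : R →+* B)
    (h : ∀ (A : Type u) [CommRing A] (I : Ideal A), I ^ 2 = ⊥ →
      EL (Spec.map (CommRingCat.ofHom (Ideal.Quotient.mk I))) (Spec.map (CommRingCat.ofHom φ))) :
    φ.FormallySmooth := by
  letI : Algebra R B := φ.toAlgebra
  change Algebra.FormallySmooth R B
  rw [Algebra.FormallySmooth.iff_comp_surjective]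
  intro C _ _ J hJ α
  obtain ⟨l, h1, h2⟩ := h C J hJ (Spec.map (CommRingCat.ofHom α.toRingHom))
    (Spec.map (CommRingCat.ofHom (algebraMap R C))) (by
      rw [← Spec.map_comp, ← Spec.map_comp]
      congr 1
      ext r
      exact (α.commutes r).symm)
  obtain ⟨μ, rfl⟩ := Spec.map_surjective l
  have e1 : μ ≫ CommRingCat.ofHom (Ideal.Quotient.mk J) = CommRingCat.ofHom α.toRingHom :=
    Spec.map_injective (by simpa [Spec.map_comp] using h1)
  have e2 : CommRingCat.ofHom φ ≫ μ = CommRingCat.ofHom (algebraMap R C) :=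
    Spec.map_injective (by simpa [Spec.map_comp] using h2)
  let m : B →ₐ[R] C := { μ.hom with commutes' := fun r => congr($(e2).hom r) }
  refine ⟨m, ?_⟩
  ext x
  exact congr($(e1).hom x)

/-- Local lifts for a smooth morphism. -/
theorem exists_local_lift_of_smooth (t : T ⟶ T') (f : X ⟶ Y) (a : T ⟶ X) (b : T' ⟶ Y)
    [IsClosedImmersion t] [Surjective t] (hsq : SqZero t) [Smooth f] (w : t ≫ b = a ≫ f)
    (x : T') : ∃ (W : T'.Opens) (p : W.toScheme ⟶ X), x ∈ W ∧ TComp t a W p ∧ FComp f b W p := by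
  obtain ⟨W, ⟨hW, U, V, hU, hV, hUV, hWV, hWU⟩, hxW, -⟩ := exists_isGood t f a b w x ⊤ trivial
  have hφ : (f.appLE V U hUV).hom.FormallySmooth := (f.smooth_appLE hV hU hUV).formallySmooth
  have e1 : t ⁻¹ᵁ W ≤ (a ≫ f) ⁻¹ᵁ V := fun z hz => hUV (hWU hz)
  have e2 : t ⁻¹ᵁ W ≤ (t ≫ b) ⁻¹ᵁ V := fun z hz => hWV hz
  have comm : (a.appLE U (t ⁻¹ᵁ W) hWU).hom.comp (f.appLE V U hUV).hom =
      (t.app W).hom.comp (b.appLE V W hWV).hom := by
    have h1 : (a ≫ f).appLE V (t ⁻¹ᵁ W) e1 = f.appLE V U hUV ≫ a.appLE U (t ⁻¹ᵁ W) hWU := by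
      rw [Scheme.Hom.appLE_comp_appLE]
    have h2 : (t ≫ b).appLE V (t ⁻¹ᵁ W) e2 = b.appLE V W hWV ≫ t.app W := by
      rw [Scheme.Hom.app_eq_appLE, Scheme.Hom.appLE_comp_appLE]
    have h3 := appLE_congr_hom w V (t ⁻¹ᵁ W) e2 e1
    rw [h1, h2] at h3
    ext r
    exact congr($(h3.symm).hom r)
  obtain ⟨ψ, h1, h2⟩ := exists_lift_formallySmooth (f.appLE V U hUV).hom hφ (b.appLE V W hWV).hom
    (a.appLE U (t ⁻¹ᵁ W) hWU).hom (t.app W).hom (t.app_surjective _ hW) (hsq W hW) comm
  obtain ⟨p, hp, e⟩ := exists_cm_eq hW hU (CommRingCat.ofHom ψ)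
  refine ⟨W, p, hxW, (tcomp_iff hW hU p hp hWU).2 ?_, (fcomp_iff hW hV p hp hUV hWV).2 ?_⟩
  · rw [e]
    ext r
    exact congr($h1 r)
  · rw [e]
    ext r
    exact congr($h2 r)

theorem isFormallySmoothHom_of_smooth (f : X ⟶ Y) [Smooth f] : MoreMor.IsFormallySmoothHom f := by
  intro A _ I hI a b w
  haveI := surjective_spec_quot I hI
  haveI : IsClosedImmersion (Spec.map (CommRingCat.ofHom (Ideal.Quotient.mk I))) :=
    IsClosedImmersion.spec_of_surjective _ Ideal.Quotient.mk_surjective
  have hsq := sqZero_of_ker_mul _ (ker_spec_quot_sq I hI)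
  exact exists_lift_of_local _ f a b hsq w
    (fun x => exists_local_lift_of_smooth _ f a b hsq w x)

theorem smooth_of_isFormallySmoothHom (f : X ⟶ Y) [LocallyOfFinitePresentation f]
    (hf : MoreMor.IsFormallySmoothHom f) : Smooth f := by
  constructor
  intro V hV U hU e
  rw [RingHom.smooth_def]
  refine ⟨?_, f.finitePresentation_appLE hV hU e⟩
  apply formallySmooth_appLE_of_resLE
  apply formallySmooth_of_el_spec
  intro A _ I hI
  haveI : IsAffine U.toScheme := hU
  haveI : IsAffine V.toScheme := hV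
  haveI := surjective_spec_quot I hI
  have h0 := ((isFormallySmoothHom_iff_el f).1 hf A I hI).resLE U V e
  have h1 := el_of_iso_right h0 U.toScheme.isoSpec.symm V.toScheme.isoSpec
  have e' : U.toScheme.isoSpec.symm.hom ≫ f.resLE V U e ≫ V.toScheme.isoSpec.hom =
      Spec.map (CommRingCat.ofHom (f.resLE V U e).appTop.hom) := by
    rw [CommRingCat.ofHom_hom, ← Scheme.isoSpec_hom_naturality]
    simp
  rwa [e'] at h1

theorem smooth_iff_lfp_and_isFormallySmoothHom (f : X ⟶ Y) :
    Smooth f ↔ LocallyOfFinitePresentation f ∧ MoreMor.IsFormallySmoothHom f := by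
  constructor
  · intro h
    exact ⟨inferInstance, isFormallySmoothHom_of_smooth f⟩
  · rintro ⟨h1, h2⟩
    exact smooth_of_isFormallySmoothHom f h2

end

end Groth.Agent.Helper2.SmLift
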