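import Mathlib
import Groth.Agent.Lib.Helper2.SmLift.Smooth

/-!
# Zariski-local lifts for smooth morphisms along arbitrary thickenings
-/

set_option autoImplicit false
set_option backward.isDefEq.respectTransparency.types false
set_option synthInstance.maxHeartbeats 400000
set_option maxHeartbeats 4000000
set_option linter.style.haveILetI false
set_option linter.unusedSectionVars false
set_option linter.unusedVariables false
set_option linter.unusedSimpArgs false
set_option linter.unnecessarySimpa false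

universe u

open AlgebraicGeometry CategoryTheory TopologicalSpace Opposite
open Groth.Agent.Helper2.FormalLib

namespace Groth.Agent.Helper2.SmLift

/-- Ring level lifting for a smooth ring map against a surjection with nil kernel. -/
theorem exists_lift_smooth_nil {R B A C : Type*} [CommRing R] [CommRing B] [CommRing A]
    [CommRing C] (φ : R →+* B) (hφ : φ.Smooth) (β : R →+* A) (α : B →+* C)
    (q : A →+* C) (hq : Function.Surjective q)
    (hnil : ∀ x ∈ RingHom.ker q, IsNilpotent x)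
    (comm : α.comp φ = q.comp β) : ∃ ψ : B →+* A, q.comp ψ = α ∧ ψ.comp φ = β := by
  classical
  letI : Algebra R B := φ.toAlgebra
  letI : Algebra R A := β.toAlgebra
  haveI hfp : Algebra.FinitePresentation R B := hφ.finitePresentation
  haveI hfs : Algebra.FormallySmooth R B := hφ.formallySmooth
  obtain ⟨n, π, hπ, s, hs⟩ := Algebra.FinitePresentation.out (R := R) (A := B)
  choose a ha using fun i : Fin n => hq (α (π (MvPolynomial.X i)))
  let ψ₀ : MvPolynomial (Fin n) R →ₐ[R] A := MvPolynomial.aeval a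
  have h0 : ∀ p, q (ψ₀ p) = α (π p) := by
    intro p
    induction p using MvPolynomial.induction_on with
    | C r =>
      have e1 : ψ₀ (MvPolynomial.C r) = β r := by
        simp only [ψ₀, MvPolynomial.aeval_C]
        rfl
      have e2 : π (MvPolynomial.C r) = φ r := by
        rw [← MvPolynomial.algebraMap_eq, AlgHom.commutes]
        rfl
      rw [e1, e2]
      exact congr($comm r).symm
    | add p p' hp hp' => rw [map_add, map_add, map_add, map_add, hp, hp']
    | mul_X p i hp =>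
      rw [map_mul, map_mul, map_mul, map_mul, hp]
      congr 1
      simp only [ψ₀, MvPolynomial.aeval_X]
      exact ha i
  let J₀ : Ideal A := Ideal.span (ψ₀ '' (s : Set (MvPolynomial (Fin n) R)))
  have hJ₀fg : J₀.FG := ⟨s.image ψ₀, by simp [J₀]⟩
  have hJ₀le : J₀ ≤ RingHom.ker q := by
    rw [Ideal.span_le]
    rintro _ ⟨p, hp, rfl⟩
    rw [SetLike.mem_coe, RingHom.mem_ker, h0 p]
    have hpk : p ∈ RingHom.ker π.toRingHom := by
      rw [← hs]; exact Ideal.subset_span hp
    have : π p = 0 := hpk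
    rw [this, map_zero]
  have hJ₀nil : IsNilpotent J₀ :=
    hJ₀fg.isNilpotent_iff_le_nilradical.2 (fun x hx => mem_nilradical.2 (hnil x (hJ₀le hx)))
  have hs' : Ideal.span (s : Set (MvPolynomial (Fin n) R)) = RingHom.ker π := by
    rw [hs]
    ext p
    simp only [RingHom.mem_ker]
    rfl
  have hkerle : ∀ p : MvPolynomial (Fin n) R, p ∈ RingHom.ker π →
      ((Ideal.Quotient.mkₐ R J₀).comp ψ₀) p = 0 := by
    intro p hp
    have : (RingHom.ker π) ≤ Ideal.comap ψ₀.toRingHom J₀ := by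
      rw [← hs', Ideal.span_le]
      intro p' hp'
      exact Ideal.subset_span ⟨p', hp', rfl⟩
    have h1 : ψ₀ p ∈ J₀ := this hp
    rw [AlgHom.comp_apply, Ideal.Quotient.mkₐ_eq_mk]
    exact Ideal.Quotient.eq_zero_iff_mem.2 h1
  let ψ₁ : B →ₐ[R] A ⧸ J₀ :=
    (Ideal.Quotient.liftₐ (RingHom.ker π) ((Ideal.Quotient.mkₐ R J₀).comp ψ₀)
      hkerle).comp (Ideal.quotientKerAlgEquivOfSurjective hπ).symm.toAlgHom
  have hψ₁ : ∀ p, ψ₁ (π p) = Ideal.Quotient.mk J₀ (ψ₀ p) := by
    intro p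
    have e : (Ideal.quotientKerAlgEquivOfSurjective hπ).symm (π p) =
        Ideal.Quotient.mk (RingHom.ker π) p := by
      rw [AlgEquiv.symm_apply_eq]
      rfl
    change (Ideal.Quotient.liftₐ (RingHom.ker π) ((Ideal.Quotient.mkₐ R J₀).comp ψ₀)
      hkerle) ((Ideal.quotientKerAlgEquivOfSurjective hπ).symm (π p)) = _
    rw [e]
    rfl
  have hnil' : IsNilpotent (RingHom.ker (Ideal.Quotient.mkₐ R J₀ : A →+* A ⧸ J₀)) := by
    have : RingHom.ker (Ideal.Quotient.mkₐ R J₀ : A →+* A ⧸ J₀) = J₀ := by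
      ext x
      rw [RingHom.mem_ker]
      exact Ideal.Quotient.eq_zero_iff_mem
    rw [this]
    exact hJ₀nil
  let l := Algebra.FormallySmooth.liftOfSurjective ψ₁ (Ideal.Quotient.mkₐ R J₀)
    (Ideal.Quotient.mkₐ_surjective R J₀) hnil'
  have hl : ∀ b, Ideal.Quotient.mk J₀ (l b) = ψ₁ b := fun b =>
    Algebra.FormallySmooth.liftOfSurjective_apply ψ₁ (Ideal.Quotient.mkₐ R J₀)
      (Ideal.Quotient.mkₐ_surjective R J₀) hnil' b
  refine ⟨l.toRingHom, ?_, ?_⟩
  · ext b
    obtain ⟨p, rfl⟩ := hπ b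
    have h1 : Ideal.Quotient.mk J₀ (l (π p)) = Ideal.Quotient.mk J₀ (ψ₀ p) := by
      rw [hl, hψ₁]
    have h2 : l (π p) - ψ₀ p ∈ J₀ := Ideal.Quotient.eq.1 h1
    have h3 : q (l (π p) - ψ₀ p) = 0 := hJ₀le h2
    rw [map_sub, sub_eq_zero] at h3
    change q (l (π p)) = α (π p)
    rw [h3, h0]
  · ext r
    exact l.commutes r

section

variable {T T' X Y : Scheme.{u}}

/-- Local lifts for a smooth morphism along any thickening (surjective closed immersion). -/
theorem exists_local_lift_of_smooth_nil (t : T ⟶ T') (f : X ⟶ Y) (a : T ⟶ X) (b : T' ⟶ Y)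
    [IsClosedImmersion t] [Surjective t] [Smooth f] (w : t ≫ b = a ≫ f)
    (x : T') : ∃ (W : T'.Opens) (p : W.toScheme ⟶ X), x ∈ W ∧ TComp t a W p ∧ FComp f b W p := by
  obtain ⟨W, ⟨hW, U, V, hU, hV, hUV, hWV, hWU⟩, hxW, -⟩ := exists_isGood t f a b w x ⊤ trivial
  have hφ : (f.appLE V U hUV).hom.Smooth := f.smooth_appLE hV hU hUV
  have e1 : t ⁻¹ᵁ W ≤ (a ≫ f) ⁻¹ᵁ V := fun z hz => hUV (hWU hz)
  have e2 : t ⁻¹ᵁ W ≤ (t ≫ b) ⁻¹ᵁ V := fun z hz => hWV hz
  have comm : (a.appLE U (t ⁻¹ᵁ W) hWU).hom.comp (f.appLE V U hUV).hom =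
      (t.app W).hom.comp (b.appLE V W hWV).hom := by
    have h1 : (a ≫ f).appLE V (t ⁻¹ᵁ W) e1 = f.appLE V U hUV ≫ a.appLE U (t ⁻¹ᵁ W) hWU := by
      rw [Scheme.Hom.appLE_comp_appLE]
    have h2 : (t ≫ b).appLE V (t ⁻¹ᵁ W) e2 = b.appLE V W hWV ≫ t.app W := by
      rw [Scheme.Hom.app_eq_appLE, Scheme.Hom.appLE_comp_appLE]
    have h3 := appLE_congr_hom w V (t ⁻¹ᵁ W) e2 e1
    rw [h1, h2] at h3
    ext r
    exact congr($(h3.symm).hom r)
  have hnil : ∀ s ∈ RingHom.ker (t.app W).hom, IsNilpotent s := fun s hs =>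
    H9ThickAff.isNilpotent_of_app_eq_zero t t.surjective hW.isCompact s hs
  obtain ⟨ψ, h1, h2⟩ := exists_lift_smooth_nil (f.appLE V U hUV).hom hφ (b.appLE V W hWV).hom
    (a.appLE U (t ⁻¹ᵁ W) hWU).hom (t.app W).hom (t.app_surjective _ hW) hnil comm
  obtain ⟨p, hp, e⟩ := exists_cm_eq hW hU (CommRingCat.ofHom ψ)
  refine ⟨W, p, hxW, (tcomp_iff hW hU p hp hWU).2 ?_, (fcomp_iff hW hV p hp hUV hWV).2 ?_⟩
  · rw [e]
    ext r
    exact congr($h1 r)
  · rw [e]
    ext r
    exact congr($h2 r)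

end

end Groth.Agent.Helper2.SmLift
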