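import Mathlib
import Groth.Prelude.Def_AlgSpInf
import Groth.Agent.Lib.Helper2.SmLift.NilLift
import Groth.Agent.Lib.Helper2.AlgSp.FormalSmoothLocal
import Groth.Agent.Lib.Helper2.AlgSp.Points
import Groth.Agent.Lib.Helper2.AlgSp.Mor2

/-!
# Etale-local lifting for smooth morphisms of algebraic spaces along thickenings
-/

set_option autoImplicit false
set_option backward.isDefEq.respectTransparency.types false
set_option synthInstance.maxHeartbeats 400000
set_option maxHeartbeats 4000000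
set_option linter.style.haveILetI false
set_option linter.unusedSectionVars false
set_option linter.unusedVariables false
set_option linter.unusedSimpArgs false
set_option linter.unnecessarySimpa false

universe u

open CategoryTheory CategoryTheory.Limits AlgebraicGeometry Opposite AlgSp
open Groth.Agent.Helper2.AlgSpBasic Groth.Agent.Helper2.AlgSpFormal
open Groth.Agent.Helper2.FormalLib

namespace Groth.Agent.Helper2.SmLift.SpLift

open Groth.Agent.Helper2.SmLift

variable {S : Scheme.{u}}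

/-- A morphism into an open, compatible with `a` along `t`, agrees with `a` on test objects. -/
theorem comp_eq_of_tcomp {T T' X Q : Scheme.{u}} (t : T ⟶ T') (a : T ⟶ X) (W : T'.Opens)
    (p : W.toScheme ⟶ X) (h : TComp t a W p) (r : Q ⟶ T) (q : Q ⟶ W.toScheme)
    (e : r ≫ t = q ≫ W.ι) : q ≫ p = r ≫ a := by
  have hpb := isPullback_morphismRestrict t W
  have h1 : hpb.lift q r e.symm ≫ (t ∣_ W) = q := hpb.lift_fst _ _ _
  have h2 : hpb.lift q r e.symm ≫ (t ⁻¹ᵁ W).ι = r := hpb.lift_snd _ _ _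
  have h' : (t ∣_ W) ≫ p = (t ⁻¹ᵁ W).ι ≫ a := h
  rw [← h1, Category.assoc, h', ← Category.assoc, h2]

section Raw

variable {A : Type u} [CommRing A] (I : Ideal A) (str : Spec (CommRingCat.of A) ⟶ S)

/-- `Spec A` over `S`. -/
noncomputable abbrev pT' : Over S := Over.mk str

/-- `Spec (A ⧸ I)` over `S`. -/
noncomputable abbrev pT : Over S :=
  Over.mk (Spec.map (CommRingCat.ofHom (Ideal.Quotient.mk I)) ≫ str)

/-- The closed immersion `Spec (A ⧸ I) ⟶ Spec A` over `S`. -/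
noncomputable abbrev pj : pT I str ⟶ pT' str :=
  Over.homMk (Spec.map (CommRingCat.ofHom (Ideal.Quotient.mk I))) rfl

theorem surjective_spec_quot_nil (hI : ∀ x ∈ I, IsNilpotent x) :
    Surjective (Spec.map (CommRingCat.ofHom (Ideal.Quotient.mk I))) := by
  constructor
  intro p
  have hIp : I ≤ p.asIdeal := by
    intro x hx
    obtain ⟨n, hn⟩ := hI x hx
    exact p.isPrime.mem_of_pow_mem n (by rw [hn]; exact zero_mem _)
  have : p ∈ Set.range (PrimeSpectrum.comap (Ideal.Quotient.mk I)) := by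
    rw [_root_.range_comap_of_surjective _ _ Ideal.Quotient.mk_surjective,
      Ideal.mk_ker]
    exact hIp
  obtain ⟨q, hq⟩ := this
  exact ⟨q, hq⟩

theorem nil_of_surjective_spec_quot
    (h : Surjective (Spec.map (CommRingCat.ofHom (Ideal.Quotient.mk I)))) :
    ∀ x ∈ I, IsNilpotent x := by
  intro x hx
  rw [nilpotent_iff_mem_prime]
  intro J hJ
  obtain ⟨q, hq⟩ := h.surj (⟨J, hJ⟩ : PrimeSpectrum A)
  have : (⟨J, hJ⟩ : PrimeSpectrum A) ∈
      Set.range (PrimeSpectrum.comap (Ideal.Quotient.mk I)) := ⟨q, hq⟩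
  rw [_root_.range_comap_of_surjective _ _ Ideal.Quotient.mk_surjective, Ideal.mk_ker] at this
  exact this hx

section BC

variable {B : Type u} [CommRing B] (φ : A →+* B)

theorem nil_map (hI : ∀ x ∈ I, IsNilpotent x) : ∀ y ∈ I.map φ, IsNilpotent y := by
  intro y hy
  have : I.map φ ≤ nilradical B := by
    rw [Ideal.map_le_iff_le_comap]
    intro x hx
    rw [Ideal.mem_comap, mem_nilradical]
    exact (hI x hx).map φ
  exact mem_nilradical.1 (this hy)

/-- `Spec B ⟶ Spec A` over `S`. -/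
noncomputable abbrev pg' : pT' (Spec.map (CommRingCat.ofHom φ) ≫ str) ⟶ pT' str :=
  Over.homMk (Spec.map (CommRingCat.ofHom φ)) rfl

theorem pT_comm :
    Spec.map (CommRingCat.ofHom (Ideal.quotientMap (I.map φ) φ Ideal.le_comap_map)) ≫
      Spec.map (CommRingCat.ofHom (Ideal.Quotient.mk I)) =
    Spec.map (CommRingCat.ofHom (Ideal.Quotient.mk (I.map φ))) ≫
      Spec.map (CommRingCat.ofHom φ) := by
  rw [← Spec.map_comp, ← Spec.map_comp]
  congr 1

/-- `Spec (B ⧸ I B) ⟶ Spec (A ⧸ I)` over `S`. -/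
noncomputable def pg : pT (I.map φ) (Spec.map (CommRingCat.ofHom φ) ≫ str) ⟶ pT I str :=
  Over.homMk (Spec.map (CommRingCat.ofHom (Ideal.quotientMap (I.map φ) φ Ideal.le_comap_map)))
    (by
      change _ ≫ _ ≫ str = _ ≫ _ ≫ str
      rw [reassoc_of% pT_comm I φ])

theorem pg_left : (pg I str φ).left =
    Spec.map (CommRingCat.ofHom (Ideal.quotientMap (I.map φ) φ Ideal.le_comap_map)) := rfl

theorem psq : pj (I.map φ) (Spec.map (CommRingCat.ofHom φ) ≫ str) ≫ pg' str φ =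
    pg I str φ ≫ pj I str := by
  apply Over.OverMorphism.ext
  exact (pT_comm I φ).symm

theorem isPullback_pj :
    IsPullback (pg I str φ) (pj (I.map φ) (Spec.map (CommRingCat.ofHom φ) ≫ str)) (pj I str)
      (pg' str φ) :=
  over_isPullback_of_left _ _ _ _ (isPullback_spec_quot φ I)

end BC

variable {X Y : Sp S} (f : X ⟶ Y)

/-- The conclusion: an etale neighbourhood of `z` in `Spec A` with a lift. -/
def HasLocLift (top : (yon S).obj (pT I str) ⟶ X) (bot : (yon S).obj (pT' str) ⟶ Y)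
    (z : Spec (CommRingCat.of A)) : Prop :=
  ∃ (U' : Over S) (g : U' ⟶ pT' str) (l : (yon S).obj U' ⟶ X),
    Etale g.left ∧ (∃ u : U'.left, g.left u = z) ∧ l ≫ f = (yon S).map g ≫ bot ∧
      ∀ (Q : Over S) (p : Q ⟶ pT I str) (q : Q ⟶ U'), p ≫ pj I str = q ≫ g →
        (yon S).map q ≫ l = (yon S).map p ≫ top

section BC2

variable {B : Type u} [CommRing B] (φ : A →+* B)

theorem comm_baseChange (top : (yon S).obj (pT I str) ⟶ X) (bot : (yon S).obj (pT' str) ⟶ Y)
    (comm : top ≫ f = (yon S).map (pj I str) ≫ bot) :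
    ((yon S).map (pg I str φ) ≫ top) ≫ f =
      (yon S).map (pj (I.map φ) (Spec.map (CommRingCat.ofHom φ) ≫ str)) ≫
        ((yon S).map (pg' str φ) ≫ bot) := by
  rw [Category.assoc, comm, ← Category.assoc, ← Functor.map_comp, ← psq, Functor.map_comp,
    Category.assoc]

theorem hasLocLift_of_baseChange (top : (yon S).obj (pT I str) ⟶ X)
    (bot : (yon S).obj (pT' str) ⟶ Y) (hφ : φ.Etale) (z : Spec (CommRingCat.of A))
    (z' : Spec (CommRingCat.of B)) (hz : Spec.map (CommRingCat.ofHom φ) z' = z)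
    (H : HasLocLift (I.map φ) (Spec.map (CommRingCat.ofHom φ) ≫ str) f
      ((yon S).map (pg I str φ) ≫ top) ((yon S).map (pg' str φ) ≫ bot) z') :
    HasLocLift I str f top bot z := by
  obtain ⟨U', g', l, hg', ⟨u', hu'⟩, hl, hQ⟩ := H
  refine ⟨U', g' ≫ pg' str φ, l, ?_, ⟨u', ?_⟩, ?_, ?_⟩
  · rw [Over.comp_left]
    haveI : Etale (pg' str φ).left := (HasRingHomProperty.Spec_iff (P := @Etale)).2 hφ
    infer_instance
  · rw [Over.comp_left, Scheme.Hom.comp_apply, hu']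
    exact hz
  · rw [hl, Functor.map_comp, Category.assoc]
  · intro Q p q e
    have hpbS := isPullback_pj I str φ
    have e' : p ≫ pj I str = (q ≫ g') ≫ pg' str φ := by rw [e, Category.assoc]
    have hv1 : hpbS.lift p (q ≫ g') e' ≫ pg I str φ = p := hpbS.lift_fst _ _ _
    have hv2 : hpbS.lift p (q ≫ g') e' ≫ pj (I.map φ) (Spec.map (CommRingCat.ofHom φ) ≫ str) =
        q ≫ g' := hpbS.lift_snd _ _ _
    rw [hQ Q (hpbS.lift p (q ≫ g') e') q hv2, ← Category.assoc, ← Functor.map_comp, hv1]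

end BC2

/-- Step 1: factor the bottom arrow through an etale chart of the target, etale locally. -/
theorem exists_etale_factor {VY : Over S} (cV : (yon S).obj VY ⟶ Y)
    (hcVe : RepWith @Etale cV) (hcVs : RepWith @Surjective cV)
    (bot : (yon S).obj (pT' str) ⟶ Y) (z : Spec (CommRingCat.of A)) :
    ∃ (A₁ : Type u) (_ : CommRing A₁) (φ₁ : A →+* A₁)
      (v₁ : pT' (Spec.map (CommRingCat.ofHom φ₁) ≫ str) ⟶ VY) (z₁ : Spec (CommRingCat.of A₁)),
      φ₁.Etale ∧ Spec.map (CommRingCat.ofHom φ₁) z₁ = z ∧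
        (yon S).map v₁ ≫ cV = (yon S).map (pg' str φ₁) ≫ bot := by
  obtain ⟨Q, snd, fst, hpb⟩ := hcVe.1 bot
  have hsnd_et : Etale snd.left := hcVe.2 bot fst snd hpb
  have hsnd_surj : Surjective snd.left := hcVs.2 bot fst snd hpb
  obtain ⟨w, hw⟩ := hsnd_surj.surj z
  obtain ⟨k, w', hw'⟩ := affIncl_covers Q w
  obtain ⟨ι, hι⟩ : ∃ ι : Spec (Q.left.affineOpenCover.X k) ⟶ Q.left,
      ι = Q.left.affineOpenCover.f k := ⟨_, rfl⟩
  have hιw : ι w' = w := by rw [hι]; exact hw'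
  have hιet : Etale ι := by rw [hι]; infer_instance
  obtain ⟨ψc, hψc⟩ : ∃ ψc : CommRingCat.of A ⟶ Q.left.affineOpenCover.X k,
      Spec.map ψc = ι ≫ snd.left := ⟨Spec.preimage (ι ≫ snd.left), Spec.map_preimage _⟩
  have hψet : ψc.hom.Etale := by
    have : Etale (Spec.map ψc) := by rw [hψc]; infer_instance
    exact (HasRingHomProperty.Spec_iff (P := @Etale)).1 this
  obtain ⟨fst', hfst'⟩ := (yon S).map_surjective fst
  have hψc' : Spec.map (CommRingCat.ofHom ψc.hom) = ι ≫ snd.left := hψc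
  have hstr : ι ≫ Q.hom = Spec.map (CommRingCat.ofHom ψc.hom) ≫ str := by
    have h1 : snd.left ≫ str = Q.hom := Over.w snd
    rw [← h1, ← Category.assoc, ← hψc']
  obtain ⟨κ, hκ⟩ : ∃ κ : pT' (Spec.map (CommRingCat.ofHom ψc.hom) ≫ str) ⟶ Q, κ.left = ι :=
    ⟨Over.homMk ι hstr, rfl⟩
  have hκsnd : κ ≫ snd = pg' str ψc.hom := by
    apply Over.OverMorphism.ext
    rw [Over.comp_left, hκ, ← hψc']
    rfl
  refine ⟨↑(Q.left.affineOpenCover.X k), inferInstance, ψc.hom, κ ≫ fst', w', hψet, ?_, ?_⟩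
  · rw [hψc', Scheme.Hom.comp_apply, hιw, hw]
  · rw [Functor.map_comp, Category.assoc, hfst', hpb.w, ← Category.assoc, ← Functor.map_comp,
      hκsnd]

/-- Step 2: factor the top arrow through an etale chart of the source, etale locally on
`Spec A` (lifting etale algebras along `A → A ⧸ I`). -/
theorem exists_etale_lift_chart {U₀ : Over S} (cU : (yon S).obj U₀ ⟶ X)
    (hcUe : RepWith @Etale cU) (hcUs : RepWith @Surjective cU)
    (hI : ∀ x ∈ I, IsNilpotent x)
    (top : (yon S).obj (pT I str) ⟶ X) (z : Spec (CommRingCat.of A)) :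
    ∃ (B : Type u) (_ : CommRing B) (φ : A →+* B)
      (u₀ : pT (I.map φ) (Spec.map (CommRingCat.ofHom φ) ≫ str) ⟶ U₀)
      (z' : Spec (CommRingCat.of B)),
      φ.Etale ∧ Spec.map (CommRingCat.ofHom φ) z' = z ∧
        (yon S).map u₀ ≫ cU = (yon S).map (pg I str φ) ≫ top := by
  obtain ⟨W, snd, fst, hpb⟩ := hcUe.1 top
  have hsnd_et : Etale snd.left := hcUe.2 top fst snd hpb
  have hsnd_surj : Surjective snd.left := hcUs.2 top fst snd hpb
  obtain ⟨t₀, ht₀⟩ := (surjective_spec_quot_nil I hI).surj z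
  obtain ⟨w, hw⟩ := hsnd_surj.surj t₀
  obtain ⟨k, w', hw'⟩ := affIncl_covers W w
  obtain ⟨ι, hι⟩ : ∃ ι : Spec (W.left.affineOpenCover.X k) ⟶ W.left,
      ι = W.left.affineOpenCover.f k := ⟨_, rfl⟩
  have hιw : ι w' = w := by rw [hι]; exact hw'
  have hιet : Etale ι := by rw [hι]; infer_instance
  obtain ⟨ψc, hψc⟩ : ∃ ψc : CommRingCat.of (A ⧸ I) ⟶ W.left.affineOpenCover.X k,
      Spec.map ψc = ι ≫ snd.left := ⟨Spec.preimage (ι ≫ snd.left), Spec.map_preimage _⟩
  have hψet : ψc.hom.Etale := by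
    have : Etale (Spec.map ψc) := by rw [hψc]; infer_instance
    exact (HasRingHomProperty.Spec_iff (P := @Etale)).1 this
  obtain ⟨B, _, φ, hφ, ε, hε, hεψ⟩ :=
    Groth.Agent.Helper2.FormalSmoothLocal.exists_lift_ring I ψc.hom hψet
  have hcomp : (Spec.map (CommRingCat.ofHom ε) ≫ ι) ≫ snd.left =
      Spec.map (CommRingCat.ofHom (Ideal.quotientMap (I.map φ) φ Ideal.le_comap_map)) := by
    rw [Category.assoc, ← hψc, ← Spec.map_comp]
    congr 1
    ext x
    exact congrArg (fun m => m x) hεψ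
  obtain ⟨κ, hκ⟩ : ∃ κ : pT (I.map φ) (Spec.map (CommRingCat.ofHom φ) ≫ str) ⟶ W,
      κ.left = Spec.map (CommRingCat.ofHom ε) ≫ ι := by
    refine ⟨Over.homMk (Spec.map (CommRingCat.ofHom ε) ≫ ι) ?_, rfl⟩
    have h1 : snd.left ≫ (pT I str).hom = W.hom := Over.w snd
    rw [← h1, ← Category.assoc, hcomp]
    change _ ≫ _ ≫ str = _ ≫ _ ≫ str
    rw [reassoc_of% pT_comm I φ]
  have hκsnd : κ ≫ snd = pg I str φ := by
    apply Over.OverMorphism.ext
    rw [Over.comp_left, hκ, hcomp]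
    rfl
  obtain ⟨fst', hfst'⟩ := (yon S).map_surjective fst
  have hiso : IsIso (CommRingCat.ofHom ε) := (ConcreteCategory.isIso_iff_bijective _).2 hε
  obtain ⟨z'', hz''⟩ := (Spec.map (CommRingCat.ofHom ε)).surjective w'
  refine ⟨B, inferInstance, φ, κ ≫ fst',
    Spec.map (CommRingCat.ofHom (Ideal.Quotient.mk (I.map φ))) z'', hφ, ?_, ?_⟩
  · have e1 : Spec.map (CommRingCat.ofHom (Ideal.Quotient.mk (I.map φ))) ≫
        Spec.map (CommRingCat.ofHom φ) =
        (Spec.map (CommRingCat.ofHom ε) ≫ ι) ≫ snd.left ≫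
          Spec.map (CommRingCat.ofHom (Ideal.Quotient.mk I)) := by
      rw [← Category.assoc, hcomp, pT_comm]
    rw [← Scheme.Hom.comp_apply, e1, Scheme.Hom.comp_apply, Scheme.Hom.comp_apply,
      Scheme.Hom.comp_apply, hz'', hιw, hw, ht₀]
  · rw [Functor.map_comp, Category.assoc, hfst', hpb.w, ← Category.assoc, ← Functor.map_comp,
      hκsnd]

/-- The chart case: the data factor through a smooth chart of `f`. -/
theorem hasLocLift_of_chart {U VY : Over S} (cU : (yon S).obj U ⟶ X)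
    (cV : (yon S).obj VY ⟶ Y) (h : U ⟶ VY) (hc : cU ≫ f = (yon S).map h ≫ cV)
    [Smooth h.left] (hI : ∀ x ∈ I, IsNilpotent x) (u : pT I str ⟶ U) (v : pT' str ⟶ VY)
    (huv : u ≫ h = pj I str ≫ v) (z : Spec (CommRingCat.of A)) :
    HasLocLift I str f ((yon S).map u ≫ cU) ((yon S).map v ≫ cV) z := by
  haveI : IsClosedImmersion (pj I str).left :=
    IsClosedImmersion.spec_of_surjective _ Ideal.Quotient.mk_surjective
  haveI : Surjective (pj I str).left := surjective_spec_quot_nil I hI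
  have w : (pj I str).left ≫ v.left = u.left ≫ h.left := by
    rw [← Over.comp_left, ← Over.comp_left, huv]
  obtain ⟨W, p, hzW, htc, hfc⟩ :=
    exists_local_lift_of_smooth_nil (pj I str).left h.left u.left v.left w z
  have hfc' : p ≫ h.left = W.ι ≫ v.left := hfc
  have hp : p ≫ U.hom = W.ι ≫ str := by
    have h1 : h.left ≫ VY.hom = U.hom := Over.w h
    have h2 : v.left ≫ VY.hom = str := Over.w v
    rw [← h1, ← Category.assoc, hfc', Category.assoc, h2]
  obtain ⟨U', hU'⟩ : ∃ U' : Over S, U' = Over.mk (W.ι ≫ str) := ⟨_, rfl⟩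
  subst hU'
  obtain ⟨g, hg⟩ : ∃ g : Over.mk (W.ι ≫ str) ⟶ pT' str, g.left = W.ι :=
    ⟨Over.homMk W.ι rfl, rfl⟩
  obtain ⟨pO, hpO⟩ : ∃ pO : Over.mk (W.ι ≫ str) ⟶ U, pO.left = p := ⟨Over.homMk p hp, rfl⟩
  have hpOh : pO ≫ h = g ≫ v := by
    apply Over.OverMorphism.ext
    rw [Over.comp_left, Over.comp_left, hpO, hg]
    exact hfc'
  refine ⟨Over.mk (W.ι ≫ str), g, (yon S).map pO ≫ cU, ?_, ⟨⟨z, hzW⟩, ?_⟩, ?_, ?_⟩
  · rw [hg]; infer_instance
  · rw [hg]; rfl
  · rw [Category.assoc, hc, ← Category.assoc, ← Functor.map_comp, hpOh, Functor.map_comp,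
      Category.assoc]
  · intro Q p' q e
    have e' : p'.left ≫ (pj I str).left = q.left ≫ W.ι := by
      have h0 : (p' ≫ pj I str).left = (q ≫ g).left := by rw [e]
      rw [Over.comp_left, Over.comp_left, hg] at h0
      exact h0
    have key : q.left ≫ p = p'.left ≫ u.left :=
      comp_eq_of_tcomp _ _ W p htc p'.left q.left e'
    have key' : q ≫ pO = p' ≫ u := by
      apply Over.OverMorphism.ext
      rw [Over.comp_left, Over.comp_left, hpO]
      exact key
    rw [← Category.assoc, ← Functor.map_comp, key', Functor.map_comp, Category.assoc]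

/-- The Spec form of the etale local lifting theorem for smooth morphisms of algebraic spaces. -/
theorem spec_lift (hX : IsAlgSpace X) (hY : IsAlgSpace Y) (hf : LocP @Smooth f)
    (hI : ∀ x ∈ I, IsNilpotent x)
    (top : (yon S).obj (pT I str) ⟶ X) (bot : (yon S).obj (pT' str) ⟶ Y)
    (comm : top ≫ f = (yon S).map (pj I str) ≫ bot) (z : Spec (CommRingCat.of A)) :
    HasLocLift I str f top bot z := by
  obtain ⟨U₀, cU₀, hcU₀e, hcU₀s⟩ := hX.atlas
  obtain ⟨VY, cV, hcVe, hcVs⟩ := hY.atlas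
  obtain ⟨U, pU, hU, hpbU⟩ := hcVe.1 (cU₀ ≫ f)
  have hpU_et : Etale pU.left := hcVe.2 (cU₀ ≫ f) hU pU hpbU
  obtain ⟨h, hh⟩ := (yon S).map_surjective hU
  have hcUe : RepWith @Etale ((yon S).map pU ≫ cU₀) :=
    repWith_comp @Etale ((repWith_yon_map_iff @Etale pU).2 hpU_et) hcU₀e
  have hcomm_h : ((yon S).map pU ≫ cU₀) ≫ f = (yon S).map h ≫ cV := by
    rw [Category.assoc, hh, hpbU.w]
  haveI hsm : Smooth h.left := hf _ _ h hcUe hcVe hcomm_h
  obtain ⟨A₁, _, φ₁, v₁, z₁, hφ₁, hz₁, hv₁⟩ := exists_etale_factor str cV hcVe hcVs bot z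
  refine hasLocLift_of_baseChange I str f φ₁ top bot hφ₁ z z₁ hz₁ ?_
  have comm₁ := comm_baseChange I str f φ₁ top bot comm
  obtain ⟨B, _, φ₂, u₀, z₂, hφ₂, hz₂, hu₀⟩ := exists_etale_lift_chart (I.map φ₁)
    (Spec.map (CommRingCat.ofHom φ₁) ≫ str) cU₀ hcU₀e hcU₀s (nil_map I φ₁ hI)
    ((yon S).map (pg I str φ₁) ≫ top) z₁
  refine hasLocLift_of_baseChange (I.map φ₁) (Spec.map (CommRingCat.ofHom φ₁) ≫ str) f φ₂
    _ _ hφ₂ z₁ z₂ hz₂ ?_
  have comm₂ := comm_baseChange (I.map φ₁) (Spec.map (CommRingCat.ofHom φ₁) ≫ str) f φ₂ _ _ comm₁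
  have hbot₂ : (yon S).map (pg' (Spec.map (CommRingCat.ofHom φ₁) ≫ str) φ₂) ≫
      (yon S).map (pg' str φ₁) ≫ bot =
      (yon S).map (pg' (Spec.map (CommRingCat.ofHom φ₁) ≫ str) φ₂ ≫ v₁) ≫ cV := by
    rw [Functor.map_comp, Category.assoc, hv₁]
  have e₂ : (yon S).map (pj ((I.map φ₁).map φ₂)
        (Spec.map (CommRingCat.ofHom φ₂) ≫ Spec.map (CommRingCat.ofHom φ₁) ≫ str) ≫
        pg' (Spec.map (CommRingCat.ofHom φ₁) ≫ str) φ₂ ≫ v₁) ≫ cV =
      (yon S).map u₀ ≫ cU₀ ≫ f := by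
    rw [Functor.map_comp, Category.assoc, ← hbot₂, ← comm₂, ← hu₀, Category.assoc]
  obtain ⟨u₂, hu₂⟩ := (yon S).map_surjective (hpbU.lift _ _ e₂)
  have hu₂h : u₂ ≫ h = pj ((I.map φ₁).map φ₂)
        (Spec.map (CommRingCat.ofHom φ₂) ≫ Spec.map (CommRingCat.ofHom φ₁) ≫ str) ≫
        pg' (Spec.map (CommRingCat.ofHom φ₁) ≫ str) φ₂ ≫ v₁ :=
    (yon S).map_injective (by rw [Functor.map_comp, hu₂, hh, hpbU.lift_fst])
  have hu₂p : u₂ ≫ pU = u₀ :=
    (yon S).map_injective (by rw [Functor.map_comp, hu₂, hpbU.lift_snd])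
  have H := hasLocLift_of_chart ((I.map φ₁).map φ₂)
    (Spec.map (CommRingCat.ofHom φ₂) ≫ Spec.map (CommRingCat.ofHom φ₁) ≫ str) f
    ((yon S).map pU ≫ cU₀) cV h hcomm_h (nil_map _ φ₂ (nil_map I φ₁ hI)) u₂
    (pg' (Spec.map (CommRingCat.ofHom φ₁) ≫ str) φ₂ ≫ v₁) hu₂h z₂
  have et : (yon S).map u₂ ≫ (yon S).map pU ≫ cU₀ =
      (yon S).map (pg (I.map φ₁) (Spec.map (CommRingCat.ofHom φ₁) ≫ str) φ₂) ≫
        (yon S).map (pg I str φ₁) ≫ top := by
    rw [← Category.assoc ((yon S).map u₂), ← Functor.map_comp, hu₂p, hu₀]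
  rw [et, ← hbot₂] at H
  exact H

end Raw

end Groth.Agent.Helper2.SmLift.SpLift
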