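import Mathlib
import Groth.Prelude.Def_AlgSpInf
import Groth.Agent.Lib.Helper2.SmLift.Smooth
import Groth.Agent.Lib.Helper2.AlgSp.FormalEtaleChar

/-!
# Representable smooth / etale / unramified morphisms of sheaves are formally so
-/

set_option autoImplicit false
set_option backward.isDefEq.respectTransparency.types false
set_option synthInstance.maxHeartbeats 400000
set_option maxHeartbeats 4000000
set_option linter.style.haveILetI false
set_option linter.unusedSectionVars false
set_option linter.unusedVariables false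
set_option linter.unusedSimpArgs false
set_option linter.unnecessarySimpa false

namespace Groth.Agent.Helper2.SmLift
open CategoryTheory CategoryTheory.Limits AlgebraicGeometry Opposite AlgSp
open Groth.Agent.Helper2.AlgSpBasic Groth.Agent.Helper2.FormalLib Groth.Agent.Helper2.AlgSpFormal
universe u
variable {S : Scheme.{u}}

/-- A representable smooth morphism of sheaves lifts along first order thickenings of affine
schemes over `S`. -/
theorem el_of_repWith_smooth {F G : Sp S} (a : F ⟶ G) (ha : RepWith @Smooth a) {Z Z' : Over S}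
    (t : Z ⟶ Z') (ht : IsFOT t) [IsAffine Z'.left] (top : (yon S).obj Z ⟶ F)
    (bot : (yon S).obj Z' ⟶ G) (comm : top ≫ a = (yon S).map t ≫ bot) :
    ∃ l : (yon S).obj Z' ⟶ F, (yon S).map t ≫ l = top ∧ l ≫ a = bot := by
  have hrep : Representable a := ha.rep
  have sq := hrep.isPullback bot
  have hsm : Smooth (hrep.snd bot).left := ha.property bot _ _ sq
  have := ht.ci
  have := ht.surj
  obtain ⟨σ, hσ⟩ := (yon S).map_surjective (sq.lift top ((yon S).map t) comm)
  have hσ1 : (yon S).map σ ≫ hrep.fst bot = top := by rw [hσ, sq.lift_fst]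
  have hσ2 : σ ≫ hrep.snd bot = t :=
    (yon S).map_injective (by rw [Functor.map_comp, hσ, sq.lift_snd])
  have hsq := sqZero_of_ker_mul t.left ht.sq
  have w : t.left ≫ 𝟙 _ = σ.left ≫ (hrep.snd bot).left := by
    rw [Category.comp_id, ← Over.comp_left, hσ2]
  obtain ⟨lam, hl1, hl2⟩ := exists_lift_of_local t.left (hrep.snd bot).left σ.left (𝟙 _) hsq w
    (fun x => exists_local_lift_of_smooth t.left (hrep.snd bot).left σ.left (𝟙 _) hsq w x)
  let lam' : Z' ⟶ hrep.pullback bot := Over.homMk lam (by
    rw [← Over.w (hrep.snd bot), reassoc_of% hl2])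
  have hlam1 : t ≫ lam' = σ := Over.OverMorphism.ext hl1
  have hlam2 : lam' ≫ hrep.snd bot = 𝟙 _ := Over.OverMorphism.ext hl2
  refine ⟨(yon S).map lam' ≫ hrep.fst bot, ?_, ?_⟩
  · rw [← Category.assoc, ← Functor.map_comp, hlam1, hσ1]
  · rw [Category.assoc, sq.w, ← Category.assoc, ← Functor.map_comp, hlam2,
      CategoryTheory.Functor.map_id, Category.id_comp]

/-- A representable unramified morphism of sheaves has at most one lift along first order
thickenings of schemes over `S`. -/
theorem uu_of_repWith_unramified {F G : Sp S} (a : F ⟶ G)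
    (ha : RepWith (@LocallyOfFiniteType ⊓ @FormallyUnramified) a) {Z Z' : Over S}
    (t : Z ⟶ Z') (ht : IsFOT t) (l l' : (yon S).obj Z' ⟶ F)
    (h1 : (yon S).map t ≫ l = (yon S).map t ≫ l') (h2 : l ≫ a = l' ≫ a) : l = l' := by
  have hrep : Representable a := ha.rep
  have sq := hrep.isPullback (l ≫ a)
  have hun : FormallyUnramified (hrep.snd (l ≫ a)).left := (ha.property (l ≫ a) _ _ sq).2
  have := ht.ci
  have := ht.surj
  obtain ⟨μ, hμ⟩ := (yon S).map_surjective (sq.lift l (𝟙 _) (by rw [Category.id_comp]))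
  obtain ⟨μ', hμ'⟩ := (yon S).map_surjective (sq.lift l' (𝟙 _) (by rw [Category.id_comp, h2]))
  have hμ1 : (yon S).map μ ≫ hrep.fst (l ≫ a) = l := by rw [hμ, sq.lift_fst]
  have hμ2 : μ ≫ hrep.snd (l ≫ a) = 𝟙 _ :=
    (yon S).map_injective (by
      rw [Functor.map_comp, hμ, sq.lift_snd, CategoryTheory.Functor.map_id])
  have hμ'1 : (yon S).map μ' ≫ hrep.fst (l ≫ a) = l' := by rw [hμ', sq.lift_fst]
  have hμ'2 : μ' ≫ hrep.snd (l ≫ a) = 𝟙 _ :=
    (yon S).map_injective (by
      rw [Functor.map_comp, hμ', sq.lift_snd, CategoryTheory.Functor.map_id])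
  have e : t ≫ μ = t ≫ μ' := by
    apply (yon S).map_injective
    apply sq.hom_ext
    · rw [Functor.map_comp, Functor.map_comp, Category.assoc, Category.assoc, hμ1, hμ'1, h1]
    · rw [← Functor.map_comp, ← Functor.map_comp, Category.assoc, Category.assoc, hμ2, hμ'2]
  have huu := uu_of_locFUnr (locFUnr_of_formallyUnramified (hrep.snd (l ≫ a)).left) t.left ht.sq
  have : μ.left = μ'.left := huu μ.left μ'.left
    (by rw [← Over.comp_left, ← Over.comp_left, e])
    (by rw [← Over.comp_left, ← Over.comp_left, hμ2, hμ'2])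
  have hμμ : μ = μ' := Over.OverMorphism.ext this
  rw [← hμ1, ← hμ'1, hμμ]

theorem formally_of_repWith {F G : Sp S} (a : F ⟶ G) :
    (AlgSp.RepWith @Smooth a → AlgSp.IsFormallySmoothMor a) ∧
    (AlgSp.RepWith @Etale a → AlgSp.IsFormallyEtaleMor a) ∧
    (AlgSp.RepWith (@LocallyOfFiniteType ⊓ @FormallyUnramified) a →
      AlgSp.IsFormallyUnramifiedMor a) := by
  refine ⟨fun ha sq => ?_, fun ha => isFormallyEtaleMor_of_repWith_etale a ha, fun ha sq => ?_⟩
  · haveI : IsAffine sq.ptT'.left := by
      change IsAffine (Spec (CommRingCat.of sq.A))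
      infer_instance
    exact el_of_repWith_smooth a ha sq.j (isFOT_j sq) sq.top sq.bot sq.comm
  · intro l l' h1 h2 h1' h2'
    exact uu_of_repWith_unramified a ha sq.j (isFOT_j sq) l l' (h1.trans h1'.symm)
      (h2.trans h2'.symm)

end Groth.Agent.Helper2.SmLift
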