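import Mathlib
import Groth.Prelude.Def_AlgSpInf
import Groth.Agent.Lib.Helper2.SmLift.SpLift

/-!
# Etale-local lifting for smooth morphisms of algebraic spaces along thickenings: main theorem
-/

set_option autoImplicit false
set_option backward.isDefEq.respectTransparency.types false
set_option synthInstance.maxHeartbeats 400000
set_option maxHeartbeats 4000000
set_option linter.style.haveILetI false
set_option linter.unusedSectionVars false
set_option linter.unusedVariables false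
set_option linter.unusedSimpArgs false
set_option linter.unnecessarySimpa false

universe u

open CategoryTheory CategoryTheory.Limits AlgebraicGeometry Opposite AlgSp
open Groth.Agent.Helper2.AlgSpBasic Groth.Agent.Helper2.AlgSpFormal
open Groth.Agent.Helper2.FormalLib

namespace Groth.Agent.Helper2.SmLift.SpLift

variable {S : Scheme.{u}}

/-- Every closed immersion of schemes over `S` with affine target is isomorphic to one of the
form `Spec (A ⧸ I) ⟶ Spec A`. -/
theorem exists_spec_model_ci {Z Z' : Over S} (t : Z ⟶ Z') [IsClosedImmersion t.left]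
    [IsAffine Z'.left] :
    ∃ (A : Type u) (_ : CommRing A) (I : Ideal A) (str : Spec (CommRingCat.of A) ⟶ S)
      (ε : pT I str ≅ Z) (ε' : pT' str ≅ Z'), ε.hom ≫ t = pj I str ≫ ε'.hom := by
  haveI : IsAffine Z.left := isAffine_of_isAffineHom t.left
  have surj : Function.Surjective t.left.appTop.hom :=
    Scheme.Hom.app_surjective t.left ⊤ (isAffineOpen_top _)
  obtain ⟨e, he⟩ := exists_iso_spec_quot t.left surj
  have he' : e.inv ≫ t.left =
      Spec.map (CommRingCat.ofHom (Ideal.Quotient.mk (RingHom.ker t.left.appTop.hom))) ≫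
        Z'.left.isoSpec.inv := by
    rw [Iso.inv_comp_eq]; exact he
  have hk : e.symm.hom ≫ Z.hom =
      Spec.map (CommRingCat.ofHom (Ideal.Quotient.mk (RingHom.ker t.left.appTop.hom))) ≫
        Z'.left.isoSpec.inv ≫ Z'.hom := by
    change e.inv ≫ Z.hom = _
    rw [← Over.w t, reassoc_of% he']
  refine ⟨Γ(Z'.left, ⊤), inferInstance, RingHom.ker t.left.appTop.hom,
    Z'.left.isoSpec.inv ≫ Z'.hom, Over.isoMk e.symm hk,
    Over.isoMk Z'.left.isoSpec.symm (by simp), ?_⟩
  apply Over.OverMorphism.ext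
  exact he'

/-- Etale local lifting along thickenings for smooth morphisms of algebraic spaces. -/
theorem main {X Y T T' : Sp S} (hX : IsAlgSpace X) (hY : IsAlgSpace Y) (hT' : IsAlgSpace T')
    (f : X ⟶ Y) (hf : LocP @Smooth f) (i : T ⟶ T') (hi : IsThickMor i) (a : T ⟶ X)
    (b : T' ⟶ Y) (w : a ≫ f = i ≫ b) (t' : Points T') :
    ∃ (V : Over S) (e : (yon S).obj V ⟶ T') (ℓ : (yon S).obj V ⟶ X),
      RepWith @Etale e ∧ t' ∈ Set.range (Points.ofPt e) ∧ ℓ ≫ f = e ≫ b ∧
      ∀ (P : Sp S) (p₁ : P ⟶ T) (p₂ : P ⟶ (yon S).obj V),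
        IsPullback p₁ p₂ i e → p₂ ≫ ℓ = p₁ ≫ a := by
  obtain ⟨V₁, c₁, hc₁e, hc₁s⟩ := hT'.atlas
  obtain ⟨v₁, hv₁⟩ := surjective_ofPt c₁ hc₁s t'
  obtain ⟨k, v₀, hv₀⟩ := affIncl_covers V₁ v₁
  obtain ⟨e₀, he₀def⟩ : ∃ e₀ : (yon S).obj (affPiece V₁ k) ⟶ T',
      e₀ = (yon S).map (affIncl V₁ k) ≫ c₁ := ⟨_, rfl⟩
  have he₀ : RepWith @Etale e₀ := by
    rw [he₀def]; exact repWith_etale_affIncl_comp c₁ hc₁e k
  have he₀pt : Points.ofPt e₀ v₀ = t' := by
    rw [he₀def, ofPt_yon_map_comp, hv₀, hv₁]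
  obtain ⟨W₀, snd₀, fst₀, hpb₀⟩ := hi.1 e₀
  have hthick : thick snd₀.left := hi.2 e₀ fst₀ snd₀ hpb₀
  haveI : IsClosedImmersion snd₀.left := hthick.1
  haveI : Surjective snd₀.left := hthick.2
  obtain ⟨A, _, I, str, ε, ε', hε⟩ := exists_spec_model_ci snd₀
  haveI h1iso : IsIso ε.hom.left := inferInstanceAs (IsIso ((Over.forget S).map ε.hom))
  haveI h2iso : IsIso ε'.inv.left := inferInstanceAs (IsIso ((Over.forget S).map ε'.inv))
  haveI h3iso : IsIso ε'.hom.left := inferInstanceAs (IsIso ((Over.forget S).map ε'.hom))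
  have hI : ∀ x ∈ I, IsNilpotent x := by
    apply nil_of_surjective_spec_quot
    have h1 : (pj I str).left = ε.hom.left ≫ snd₀.left ≫ ε'.inv.left := by
      rw [← Over.comp_left, ← Over.comp_left, ← Category.assoc, hε, Category.assoc,
        Iso.hom_inv_id, Category.comp_id]
    change Surjective (pj I str).left
    rw [h1]
    infer_instance
  obtain ⟨top, htop⟩ : ∃ top : (yon S).obj (pT I str) ⟶ X,
      top = (yon S).map ε.hom ≫ fst₀ ≫ a := ⟨_, rfl⟩
  obtain ⟨bot, hbot⟩ : ∃ bot : (yon S).obj (pT' str) ⟶ Y,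
      bot = (yon S).map ε'.hom ≫ e₀ ≫ b := ⟨_, rfl⟩
  have comm : top ≫ f = (yon S).map (pj I str) ≫ bot := by
    rw [htop, hbot, Category.assoc, Category.assoc, w, ← Category.assoc fst₀, hpb₀.w,
      ← Category.assoc ((yon S).map (pj I str)), ← Functor.map_comp, ← hε, Functor.map_comp]
    simp only [Category.assoc]
  obtain ⟨U', g, l, hg, ⟨u', hu'⟩, hl, hQ⟩ :=
    spec_lift I str f hX hY hf hI top bot comm (ε'.inv.left v₀)
  refine ⟨U', (yon S).map (g ≫ ε'.hom) ≫ e₀, l, ?_, ⟨u', ?_⟩, ?_, ?_⟩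
  · refine repWith_comp @Etale ((repWith_yon_map_iff @Etale _).2 ?_) he₀
    rw [Over.comp_left]
    infer_instance
  · rw [ofPt_yon_map_comp, Over.comp_left, Scheme.Hom.comp_apply, hu', ← Scheme.Hom.comp_apply,
      ← Over.comp_left, Iso.inv_hom_id, Over.id_left]
    exact he₀pt
  · rw [hl, hbot, Functor.map_comp]
    simp only [Category.assoc]
  · intro P p₁ p₂ hP
    apply hom_ext_yon
    intro Q s
    obtain ⟨q, hq⟩ := (yon S).map_surjective (s ≫ p₂)
    have e1 : (s ≫ p₁) ≫ i = (yon S).map (q ≫ g ≫ ε'.hom) ≫ e₀ := by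
      rw [Category.assoc, hP.w, ← Category.assoc s, ← hq, ← Category.assoc, ← Functor.map_comp]
    obtain ⟨r₀, hr₀⟩ := (yon S).map_surjective
      (hpb₀.lift (s ≫ p₁) ((yon S).map (q ≫ g ≫ ε'.hom)) e1)
    have hr₀1 : (yon S).map r₀ ≫ fst₀ = s ≫ p₁ := by rw [hr₀, hpb₀.lift_fst]
    have hr₀2 : r₀ ≫ snd₀ = q ≫ g ≫ ε'.hom :=
      (yon S).map_injective (by rw [Functor.map_comp, hr₀, hpb₀.lift_snd])
    have h3 : ε.inv ≫ pj I str = snd₀ ≫ ε'.inv := by
      rw [Iso.inv_comp_eq, ← Category.assoc, hε, Category.assoc, Iso.hom_inv_id,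
        Category.comp_id]
    have e2 : (r₀ ≫ ε.inv) ≫ pj I str = q ≫ g := by
      rw [Category.assoc, h3, ← Category.assoc, hr₀2, Category.assoc, Category.assoc,
        Iso.hom_inv_id, Category.comp_id]
    have h4 := hQ Q (r₀ ≫ ε.inv) q e2
    rw [← Category.assoc, ← hq, h4, htop, ← Category.assoc ((yon S).map (r₀ ≫ ε.inv)),
      ← Functor.map_comp, Category.assoc r₀, Iso.inv_hom_id, Category.comp_id,
      ← Category.assoc, hr₀1, Category.assoc]

end Groth.Agent.Helper2.SmLift.SpLift
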